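import Groth.Agent.L20.Chevalley.Galois
import Mathlib.AlgebraicGeometry.IdealSheaf.Subscheme
import Mathlib.AlgebraicGeometry.Morphisms.Finite

/-!
# A finite birational affine scheme over an integral scheme dominated by an affine one
-/

universe u

open CategoryTheory CategoryTheory.Limits AlgebraicGeometry TopologicalSpace Opposite

namespace Groth.L20.Chevalley

set_option linter.style.haveILetI false
set_option backward.isDefEq.respectTransparency.types false

theorem isReduced_image {X Y : Scheme.{u}} [IsReduced X] (f : X ⟶ Y) [QuasiCompact f] :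
    IsReduced f.image := by
  haveI : ∀ x : f.image, _root_.IsReduced (f.image.presheaf.stalk x) := by
    intro x
    obtain ⟨_, ⟨U, hU, rfl⟩, hxU, -⟩ := Y.isBasis_affineOpens.exists_subset_of_mem_open
      (Set.mem_univ (f.imageι x)) isOpen_univ
    have hV : IsAffineOpen (f.imageι ⁻¹ᵁ U) := hU.preimage f.imageι
    haveI : _root_.IsReduced Γ(f.image, f.imageι ⁻¹ᵁ U) :=
      isReduced_of_injective (f.toImage.app (f.imageι ⁻¹ᵁ U)).hom
        (f.toImage_app_injective ⟨U, hU⟩)
    letI : Algebra Γ(f.image, f.imageι ⁻¹ᵁ U) (f.image.presheaf.stalk x) :=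
      TopCat.Presheaf.algebra_section_stalk f.image.presheaf ⟨x, hxU⟩
    haveI := hV.isLocalization_stalk ⟨x, hxU⟩
    exact isReduced_localizationPreserves
      (hV.primeIdealOf ⟨x, hxU⟩).asIdeal.primeCompl (f.image.presheaf.stalk x) inferInstance
  exact isReduced_of_isReduced_stalk f.image

/-- An integral scheme receiving an integral surjection from an affine scheme has a finite surjective
cover by an affine scheme whose functions lie in the function field. -/
theorem exists_birational {X S : Scheme.{u}} [IsIntegral S] [S.IsSeparated] [IsAffine X]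
    (f : X ⟶ S) [IsIntegralHom f] [Surjective f] :
    ∃ (W : Scheme.{u}) (π : W ⟶ S) (_ : IsAffine W) (_ : IsFinite π), Surjective π ∧
      ∀ (U : S.Opens) (_ : IsAffineOpen U) (hη : genericPoint S ∈ U),
        ∃ ε : Γ(W, π ⁻¹ᵁ U) →+* S.functionField, Function.Injective ε ∧
          ε.comp (π.app U).hom = (S.presheaf.germ U (genericPoint S) hη).hom := by
  classical
  let Ω := AlgebraicClosure S.functionField
  obtain ⟨φ, hφ⟩ := exists_geom_lift f Ω (geomGen S)
  let G : GenPoint f := ⟨φ, hφ⟩
  obtain ⟨ι, _, a, c, U₀, haU, hac⟩ := G.exists_family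
  let n := ι ⊕ ι
  let vK : n → G.subK := Sum.elim a c
  let v : n → Γ(G.cover, ⊤) := fun i => (Scheme.ΓSpecIso _).inv (G.incl (vK i))
  let g : G.cover ⟶ 𝔸(n; S) := AffineSpace.homOfVector G.toS v
  let W := g.image
  let p : G.cover ⟶ W := g.toImage
  let π : W ⟶ S := g.imageι ≫ (𝔸(n; S) ↘ S)
  haveI := G.isIntegralHom_toS
  haveI := G.surjective_toS
  have hpπ : p ≫ π = G.toS := by
    rw [← Category.assoc, Scheme.Hom.toImage_imageι, AffineSpace.homOfVector_over]
  haveI : IsIntegralHom g := by
    haveI : IsIntegralHom (g ≫ (𝔸(n; S) ↘ S)) := by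
      rw [AffineSpace.homOfVector_over]; infer_instance
    exact IsIntegralHom.of_comp g (𝔸(n; S) ↘ S)
  haveI : IsReduced W := isReduced_image g
  haveI : IsIntegralHom p := by
    haveI : IsIntegralHom (p ≫ g.imageι) := by rw [Scheme.Hom.toImage_imageι]; infer_instance
    exact IsIntegralHom.of_comp p g.imageι
  haveI : Surjective p := ⟨fun w => by
    have h := p.isClosedMap.isClosed_range.closure_eq
    rw [(IsDominant.denseRange (f := g.toImage)).closure_range] at h
    exact h.le (Set.mem_univ w)⟩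
  haveI : UniversallyClosed (p ≫ π) := by rw [hpπ]; infer_instance
  haveI : UniversallyClosed π := UniversallyClosed.of_comp_surjective p π
  haveI : IsIntegralHom π :=
    IsIntegralHom.iff_universallyClosed_and_isAffineHom.mpr ⟨inferInstance, inferInstance⟩
  haveI : IsFinite π := (IsFinite.iff_isIntegralHom_and_locallyOfFiniteType π).mpr ⟨inferInstance, inferInstance⟩
  haveI : Surjective (p ≫ π) := by rw [hpπ]; infer_instance
  haveI : Surjective π := Surjective.of_comp p π
  have hW : IsAffine W := by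
    let w : n → Γ(W, ⊤) := fun i => g.imageι.appTop (AffineSpace.coord S i)
    have hpw : ∀ i, p.appTop (w i) = v i := fun i => by
      rw [← CommRingCat.comp_apply, ← Scheme.Hom.comp_appTop, Scheme.Hom.toImage_imageι]
      exact AffineSpace.homOfVector_appTop_coord _ _ i
    have hinj : ∀ z : Γ(W, ⊤), p.appTop z = 0 → z = 0 := by
      intro z hz
      refine eq_zero_of_basicOpen_eq_bot z (eq_bot_iff.mpr fun y hy => ?_)
      obtain ⟨x, rfl⟩ := p.surjective y
      have hx : x ∈ p ⁻¹ᵁ W.basicOpen z := hy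
      rw [Scheme.preimage_basicOpen_top, hz, Scheme.basicOpen_zero] at hx
      exact absurd hx id
    refine isAffine_of_isAffineOpen_basicOpen (Set.range fun i : ι => w (Sum.inl i)) ?_ ?_
    · rw [Ideal.eq_top_iff_one]
      have h1 : ∑ i, w (Sum.inr i) * w (Sum.inl i) = 1 := by
        refine sub_eq_zero.mp (hinj _ ?_)
        rw [map_sub, map_sum, map_one, sub_eq_zero]
        simp only [map_mul, hpw, v, vK, Sum.elim_inr, Sum.elim_inl]
        simp only [← map_mul, ← map_sum, hac, map_one]
      rw [← h1]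
      exact Ideal.sum_mem _ fun i _ => Ideal.mul_mem_left _ _ (Ideal.subset_span ⟨i, rfl⟩)
    · rintro _ ⟨i, rfl⟩
      have hle : W.basicOpen (w (Sum.inl i)) ≤ π ⁻¹ᵁ (U₀ i).1 := by
        intro y hy
        obtain ⟨x, rfl⟩ := p.surjective y
        have hx : x ∈ p ⁻¹ᵁ W.basicOpen (w (Sum.inl i)) := hy
        rw [Scheme.preimage_basicOpen_top, hpw, basicOpen_eq_of_affine] at hx
        change π (p x) ∈ (U₀ i).1
        rw [← Scheme.Hom.comp_apply, hpπ]
        exact haU i x hx
      have hV : IsAffineOpen (π ⁻¹ᵁ (U₀ i).1) := (U₀ i).2.preimage π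
      have e : W.basicOpen (W.presheaf.map (homOfLE (le_top : π ⁻¹ᵁ (U₀ i).1 ≤ ⊤)).op (w (Sum.inl i))) =
          W.basicOpen (w (Sum.inl i)) := by
        rw [Scheme.basicOpen_res]
        exact inf_eq_right.mpr hle
      exact e ▸ hV.basicOpen _
  refine ⟨W, π, hW, inferInstance, inferInstance, fun U hU hη => ?_⟩
  haveI : Subsingleton ↥(Spec S.functionField) :=
    inferInstanceAs (Subsingleton (PrimeSpectrum S.functionField))
  let sA : Spec (CommRingCat.of Ω) ⟶ Spec S.functionField :=
    Spec.map (CommRingCat.ofHom (algebraMap S.functionField Ω))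
  let κ : Spec S.functionField ⟶ 𝔸(n; S) :=
    AffineSpace.homOfVector (S.fromSpecStalk (genericPoint S))
      (fun i => (Scheme.ΓSpecIso _).inv (vK i : S.functionField))
  let δ : Spec (CommRingCat.of Ω) ⟶ W := G.gen ≫ p
  have hδπ : δ ≫ π = sA ≫ S.fromSpecStalk (genericPoint S) := by
    rw [Category.assoc, hpπ]; exact G.gen_toS
  have hδ : δ ≫ g.imageι = sA ≫ κ := by
    rw [Category.assoc, Scheme.Hom.toImage_imageι]
    refine AffineSpace.hom_ext ?_ fun i => ?_
    · simp only [Category.assoc, κ, g, AffineSpace.homOfVector_over]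
      exact G.gen_toS
    · simp only [Scheme.Hom.comp_appTop, CommRingCat.comp_apply, κ, g,
        AffineSpace.homOfVector_appTop_coord, v]
      simp only [GenPoint.gen, sA]
      exact (ConcreteCategory.congr_hom
        (Scheme.ΓSpecIso_inv_naturality (CommRingCat.ofHom G.sub.subtype)) (G.incl (vK i))).symm.trans
        (ConcreteCategory.congr_hom
          (Scheme.ΓSpecIso_inv_naturality (CommRingCat.ofHom (algebraMap S.functionField Ω))) (vK i : S.functionField))
  have hmem : ∀ x : Spec (CommRingCat.of Ω), δ x ∈ π ⁻¹ᵁ U := by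
    intro x
    change π (δ x) ∈ U
    rw [← Scheme.Hom.comp_apply, hδπ, Scheme.Hom.comp_apply,
      show sA x = IsLocalRing.closedPoint S.functionField from Subsingleton.elim _ _,
      Scheme.fromSpecStalk_closedPoint]
    exact hη
  let ev : Γ(W, π ⁻¹ᵁ U) →+* Ω :=
    (δ.appLE (π ⁻¹ᵁ U) ⊤ (fun x _ => hmem x) ≫ (Scheme.ΓSpecIso (CommRingCat.of Ω)).hom).hom
  have hev : ∀ y, ev y ∈ (algebraMap S.functionField Ω).range := by
    intro y
    let V : (𝔸(n; S)).Opens := (𝔸(n; S) ↘ S) ⁻¹ᵁ U
    obtain ⟨c, rfl⟩ := g.imageι.app_surjective V (hU.preimage (𝔸(n; S) ↘ S)) y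
    have h2 : ⊤ ≤ κ ⁻¹ᵁ V := by
      intro x _
      change (𝔸(n; S) ↘ S) (κ x) ∈ U
      rw [← Scheme.Hom.comp_apply, AffineSpace.homOfVector_over,
        show x = IsLocalRing.closedPoint S.functionField from Subsingleton.elim _ _,
        Scheme.fromSpecStalk_closedPoint]
      exact hη
    refine ⟨(κ.appLE V ⊤ h2 ≫ (Scheme.ΓSpecIso S.functionField).hom) c, ?_⟩
    have key : g.imageι.app V ≫ δ.appLE (g.imageι ⁻¹ᵁ V) ⊤ (fun x _ => hmem x) =
        κ.appLE V ⊤ h2 ≫ sA.appTop := by
      rw [Scheme.Hom.app_eq_appLE, Scheme.Hom.appLE_comp_appLE, Scheme.Hom.appTop,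
        Scheme.Hom.app_eq_appLE]
      refine Eq.trans ?_ (Scheme.Hom.appLE_comp_appLE sA _ _ ⊤ ⊤ _ le_top).symm
      congr 1
    refine Eq.trans ?_ (ConcreteCategory.congr_hom
      ((reassoc_of% key) (Scheme.ΓSpecIso (CommRingCat.of Ω)).hom).symm c)
    rw [Scheme.ΓSpecIso_naturality]
    rfl
  let e := RingEquiv.ofBijective (algebraMap S.functionField Ω).rangeRestrict
    ⟨fun x y h => (algebraMap S.functionField Ω).injective (congrArg Subtype.val h),
      (algebraMap S.functionField Ω).rangeRestrict_surjective⟩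
  let ε : Γ(W, π ⁻¹ᵁ U) →+* S.functionField :=
    e.symm.toRingHom.comp (ev.codRestrict _ hev)
  have hε : ∀ y, algebraMap S.functionField Ω (ε y) = ev y := fun y =>
    congrArg Subtype.val (e.apply_symm_apply ⟨ev y, hev y⟩)
  refine ⟨ε, (injective_iff_map_eq_zero _).mpr fun y hy => ?_, ?_⟩
  · have h0 : δ.appLE (π ⁻¹ᵁ U) ⊤ (fun x _ => hmem x) y = 0 := by
      apply (Scheme.ΓSpecIso (CommRingCat.of Ω)).commRingCatIsoToRingEquiv.injective
      rw [map_zero]
      have := hε y
      rw [hy, map_zero] at this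
      exact this.symm
    refine eq_zero_of_basicOpen_eq_bot y (eq_bot_iff.mpr fun z hz => ?_)
    have hd : Dense (Set.range δ) := by
      haveI : IsDominant δ := inferInstanceAs (IsDominant (G.gen ≫ p))
      exact IsDominant.denseRange
    obtain ⟨_, hz', x, rfl⟩ := hd.exists_mem_open (W.basicOpen y).2 ⟨z, hz⟩ |>.imp fun _ h => h.symm
    have : x ∈ (⊤ : (Spec (CommRingCat.of Ω)).Opens) ⊓ δ ⁻¹ᵁ W.basicOpen y := ⟨trivial, hz'⟩
    rw [← Scheme.basicOpen_appLE δ ⊤ (π ⁻¹ᵁ U) (fun x _ => hmem x) y, h0, Scheme.basicOpen_zero] at this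
    exact absurd this id
  · ext s
    refine (algebraMap S.functionField Ω).injective ((hε _).trans ?_)
    have key : π.app U ≫ δ.appLE (π ⁻¹ᵁ U) ⊤ (fun x _ => hmem x) =
        (S.fromSpecStalk (genericPoint S)).appLE U ⊤
          (fun x _ => by
            change S.fromSpecStalk _ x ∈ U
            rw [show x = IsLocalRing.closedPoint S.functionField from Subsingleton.elim _ _,
              Scheme.fromSpecStalk_closedPoint]
            exact hη) ≫ sA.appTop := by
      rw [Scheme.Hom.app_eq_appLE, Scheme.Hom.appLE_comp_appLE, Scheme.Hom.appTop,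
        Scheme.Hom.app_eq_appLE]
      refine Eq.trans ?_ (Scheme.Hom.appLE_comp_appLE sA _ _ ⊤ ⊤ _ le_top).symm
      congr 1
    change (π.app U ≫ δ.appLE (π ⁻¹ᵁ U) ⊤ (fun x _ => hmem x) ≫ _) s = _
    rw [reassoc_of% key, Scheme.ΓSpecIso_naturality, Scheme.Hom.appLE, Scheme.fromSpecStalk_app hη]
    simp only [Category.assoc, ← Functor.map_comp_assoc]
    rw [show (Spec S.functionField).presheaf.map _ = 𝟙 _ from
      (congrArg _ (Subsingleton.elim _ (𝟙 _))).trans (CategoryTheory.Functor.map_id _ _),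
      Category.id_comp, Iso.inv_hom_id_assoc]
    rfl

end Groth.L20.Chevalley
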