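import Groth.Agent.L20.Chevalley.Conductor
import Groth.Agent.L18.KerReduced
import Groth.Agent.L19.SurjClosed

/-!
# Chevalley's theorem

A scheme receiving a surjective universally closed morphism from an affine scheme is affine.
-/

universe u

open CategoryTheory CategoryTheory.Limits AlgebraicGeometry TopologicalSpace Opposite

namespace Groth.L20.Chevalley

open Groth.L20.ThickAffine (res res_res res_rfl app_res)

set_option linter.style.haveILetI false
set_option backward.isDefEq.respectTransparency.types false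
set_option backward.isDefEq.respectTransparency false
set_option backward.defeqAttrib.useBackward true

variable {S : Scheme.{u}}

/-- The reduced subscheme on a closed subset. -/
noncomputable abbrev redSub (Z : Closeds S) : Scheme.{u} :=
  (Scheme.IdealSheafData.vanishingIdeal Z).subscheme

theorem range_redSub (Z : Closeds S) :
    Set.range (Scheme.IdealSheafData.vanishingIdeal Z).subschemeι = (Z : Set S) := by
  rw [Scheme.IdealSheafData.range_subschemeι, Groth.L18.support_vanishingIdeal]

/-- A closed subscheme whose reduced structure is affine is affine. -/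
theorem isAffine_of_range_eq {T : Scheme.{u}} (i : T ⟶ S) [IsClosedImmersion i] (Z : Closeds S)
    (hi : Set.range i = (Z : Set S)) [IsAffine (redSub Z)] : IsAffine T := by
  have hker : i.ker ≤ (Scheme.IdealSheafData.vanishingIdeal Z).subschemeι.ker := by
    rw [Scheme.IdealSheafData.ker_subschemeι, ← Scheme.IdealSheafData.le_support_iff_le_vanishingIdeal]
    intro x hx
    rw [← SetLike.mem_coe, ← hi] at hx
    exact i.range_subset_ker_support hx
  let l := IsClosedImmersion.lift i (Scheme.IdealSheafData.vanishingIdeal Z).subschemeι hker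
  have hl : l ≫ i = (Scheme.IdealSheafData.vanishingIdeal Z).subschemeι :=
    IsClosedImmersion.lift_fac _ _ _
  haveI : IsClosedImmersion (l ≫ i) := by rw [hl]; infer_instance
  haveI : IsClosedImmersion l := IsClosedImmersion.of_comp_isClosedImmersion l i
  refine Groth.L20.ThickAffine.isAffine_of_surjective l fun t => ?_
  obtain ⟨z, hz⟩ : i t ∈ Set.range (Scheme.IdealSheafData.vanishingIdeal Z).subschemeι := by
    rw [range_redSub, ← hi]; exact ⟨t, rfl⟩
  exact ⟨z, i.isClosedEmbedding.injective (by rw [← Scheme.Hom.comp_apply, hl, hz])⟩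

theorem isAffine_redSub_of_le {Z Z' : Closeds S} (h : Z ≤ Z') [IsAffine (redSub Z')] :
    IsAffine (redSub Z) := by
  haveI : IsClosedImmersion (Scheme.IdealSheafData.inclusion
      (Scheme.IdealSheafData.vanishingIdeal_antimono h)) := by
    haveI : IsClosedImmersion (Scheme.IdealSheafData.inclusion
        (Scheme.IdealSheafData.vanishingIdeal_antimono h) ≫
          (Scheme.IdealSheafData.vanishingIdeal Z').subschemeι) := by
      rw [Scheme.IdealSheafData.inclusion_subschemeι]; infer_instance
    exact IsClosedImmersion.of_comp_isClosedImmersion _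
      (Scheme.IdealSheafData.vanishingIdeal Z').subschemeι
  exact isAffine_of_isAffineHom (Scheme.IdealSheafData.inclusion
      (Scheme.IdealSheafData.vanishingIdeal_antimono h))

theorem isAffine_of_reducible [IsReduced S] (Z₁ Z₂ : Closeds S)
    (hcov : (Z₁ : Set S) ∪ Z₂ = Set.univ) [IsAffine (redSub Z₁)] [IsAffine (redSub Z₂)] :
    IsAffine S := by
  let J := Scheme.IdealSheafData.vanishingIdeal Z₂
  let π := (Scheme.IdealSheafData.vanishingIdeal Z₁).subschemeι
  refine GlueData.isAffine (π := π) (J := J) ⟨fun x => ?_, fun U s hs hs' => ?_, fun U r hr b => ?_⟩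
  · rcases hcov.ge (Set.mem_univ x) with h | h
    · exact Or.inl (by rw [range_redSub]; exact h)
    · refine Or.inr ?_
      rw [← SetLike.mem_coe, Groth.L18.support_vanishingIdeal]
      exact h
  · have key : ∀ Z : Closeds S, s ∈ (Scheme.IdealSheafData.vanishingIdeal Z).ideal U →
        ∀ x ∈ U.1, x ∈ (Z : Set S) → x ∉ S.basicOpen s := by
      intro Z hsZ x hxU hxZ hxs
      have hmem : x ∈ ((Scheme.IdealSheafData.vanishingIdeal Z).support : Set S) ∩ U.1 :=
        ⟨by rw [Groth.L18.support_vanishingIdeal]; exact hxZ, hxU⟩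
      rw [Scheme.IdealSheafData.coe_support_inter] at hmem
      exact (Scheme.mem_zeroLocus_iff _ _ _).mp hmem.1 s hsZ hxs
    refine eq_zero_of_basicOpen_eq_bot s (eq_bot_iff.mpr fun x hx => ?_)
    have hxU := S.basicOpen_le s hx
    rcases hcov.ge (Set.mem_univ x) with h | h
    · refine absurd hx (key Z₁ ?_ x hxU h)
      rw [← Scheme.IdealSheafData.ker_subschemeι_app]
      exact hs'
    · exact absurd hx (key Z₂ hs x hxU h)
  · obtain ⟨b', hb'⟩ := (Scheme.IdealSheafData.vanishingIdeal Z₁).subschemeι_app_surjective U b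
    refine ⟨r * b', Ideal.mul_mem_right _ _ hr, ?_⟩
    rw [map_mul]
    exact congrArg _ hb'

/-- If every proper closed subscheme is affine, so is the scheme. -/
theorem isAffine_of_forall {X : Scheme.{u}} [IsReduced S] [S.IsSeparated] [IsAffine X]
    (f : X ⟶ S) [IsIntegralHom f] [Surjective f]
    (H : ∀ Z : Closeds S, (Z : Set S) ≠ Set.univ → IsAffine (redSub Z)) : IsAffine S := by
  rcases isEmpty_or_nonempty ↑S with hS | hS
  · infer_instance
  by_cases hred : ∃ Z₁ Z₂ : Closeds S, (Z₁ : Set S) ≠ Set.univ ∧ (Z₂ : Set S) ≠ Set.univ ∧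
      (Z₁ : Set S) ∪ Z₂ = Set.univ
  · obtain ⟨Z₁, Z₂, h₁, h₂, h⟩ := hred
    haveI := H Z₁ h₁
    haveI := H Z₂ h₂
    exact isAffine_of_reducible Z₁ Z₂ h
  haveI : PreirreducibleSpace S := ⟨by
    rw [isPreirreducible_iff_isClosed_union_isClosed]
    intro A B hA hB hAB
    by_contra hne
    push Not at hne
    exact hred ⟨⟨A, hA⟩, ⟨B, hB⟩, fun h => hne.1 h.ge, fun h => hne.2 h.ge, Set.univ_subset_iff.mp hAB⟩⟩
  haveI : IrreducibleSpace S := { toNonempty := hS }
  haveI : IsIntegral S := isIntegral_of_irreducibleSpace_of_isReduced S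
  refine isAffine_of_integral f fun J hJ => ?_
  haveI := H J.support hJ
  exact isAffine_of_range_eq J.subschemeι J.support (by rw [Scheme.IdealSheafData.range_subschemeι])

theorem mem_iSup_ideal {ι : Type*} [Nonempty ι] (I : ι → S.IdealSheafData)
    (hI : Directed (· ≤ ·) I) (U : S.affineOpens) {s : Γ(S, U.1)} (hs : s ∈ (⨆ i, I i).ideal U) :
    ∃ i, s ∈ (I i).ideal U := by
  rw [Scheme.IdealSheafData.ideal_iSup, iSup_apply] at hs
  refine (Submodule.mem_iSup_of_directed _ fun i j => ?_).mp hs
  obtain ⟨k, hik, hjk⟩ := hI i j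
  exact ⟨k, hik U, hjk U⟩

/-- A global function on a directed intersection of closed subschemes extends to one of them. -/
theorem exists_lift_stage [CompactSpace S] [S.IsSeparated] {ι : Type u} [Nonempty ι]
    (I : ι → S.IdealSheafData) (hI : Directed (· ≤ ·) I) (t : Γ((⨆ i, I i).subscheme, ⊤)) :
    ∃ (i : ι) (s : Γ((I i).subscheme, ⊤)),
      (Scheme.IdealSheafData.inclusion (le_iSup I i)).appTop s = t := by
  classical
  let J := ⨆ i, I i
  obtain ⟨F, hF⟩ : ∃ F : Finset S.affineOpens, ∀ x : S, ∃ U ∈ F, x ∈ U.1 := by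
    obtain ⟨F, hF⟩ := isCompact_univ.elim_finite_subcover (fun U : S.affineOpens => (U.1 : Set S))
      (fun U => U.1.2) (fun x _ => by
        obtain ⟨_, ⟨U, hU, rfl⟩, hxU, -⟩ := S.isBasis_affineOpens.exists_subset_of_mem_open
          (Set.mem_univ x) isOpen_univ
        exact Set.mem_iUnion.mpr ⟨⟨U, hU⟩, hxU⟩)
    exact ⟨F, fun x => by simpa using hF (Set.mem_univ x)⟩
  choose t' ht' using fun U : S.affineOpens =>
    J.subschemeι_app_surjective U (res (le_top : J.subschemeι ⁻¹ᵁ U.1 ≤ ⊤) t)
  let O : S.affineOpens × S.affineOpens → S.affineOpens := fun p =>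
    ⟨p.1.1 ⊓ p.2.1, p.1.2.inf p.2.2⟩
  let d : ∀ p : S.affineOpens × S.affineOpens, Γ(S, (O p).1) := fun p =>
    res (inf_le_left : (O p).1 ≤ p.1.1) (t' p.1) - res (inf_le_right : (O p).1 ≤ p.2.1) (t' p.2)
  have hd : ∀ p, ∃ i, d p ∈ (I i).ideal (O p) := fun p => by
    refine mem_iSup_ideal I hI (O p) ?_
    rw [← Scheme.IdealSheafData.ker_subschemeι_app, RingHom.mem_ker, map_sub, sub_eq_zero]
    change J.subschemeι.app (O p).1 (res _ (t' p.1)) = J.subschemeι.app (O p).1 (res _ (t' p.2))
    rw [app_res, app_res, ht', ht', res_res, res_res]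
  choose k hk using hd
  obtain ⟨i, hi⟩ := hI.finset_le ((F ×ˢ F).image k)
  let g := (I i).subschemeι
  obtain ⟨s, hs, -⟩ := (I i).subscheme.sheaf.existsUnique_gluing'
    (fun U : F => g ⁻¹ᵁ U.1.1) ⊤ (fun U => homOfLE le_top) (fun x _ => by
      obtain ⟨U, hU, hxU⟩ := hF (g x)
      exact Opens.mem_iSup.mpr ⟨⟨U, hU⟩, hxU⟩) (fun U => g.app U.1.1 (t' U.1)) (fun U V => by
      change res (g.preimage_mono (inf_le_left : (O (U.1, V.1)).1 ≤ U.1.1)) (g.app U.1.1 (t' U.1)) =
        res (g.preimage_mono (inf_le_right : (O (U.1, V.1)).1 ≤ V.1.1)) (g.app V.1.1 (t' V.1))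
      have hmem : d (U.1, V.1) ∈ (I i).ideal (O (U.1, V.1)) :=
        hi (k (U.1, V.1)) (Finset.mem_image_of_mem k (Finset.mk_mem_product U.2 V.2)) _ (hk _)
      rw [← Scheme.IdealSheafData.ker_subschemeι_app, RingHom.mem_ker, map_sub, sub_eq_zero] at hmem
      have h1 := app_res g (inf_le_left : (O (U.1, V.1)).1 ≤ U.1.1) (t' U.1)
      have h2 := app_res g (inf_le_right : (O (U.1, V.1)).1 ≤ V.1.1) (t' V.1)
      exact h1.symm.trans (hmem.trans h2))
  refine ⟨i, s, ?_⟩
  let h := Scheme.IdealSheafData.inclusion (le_iSup I i)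
  refine J.subscheme.sheaf.eq_of_locally_eq' (fun U : F => h ⁻¹ᵁ (g ⁻¹ᵁ U.1.1)) ⊤
    (fun U => homOfLE le_top) (fun x _ => ?_) _ _ fun U => ?_
  · obtain ⟨U, hU, hxU⟩ := hF (g (h x))
    exact Opens.mem_iSup.mpr ⟨⟨U, hU⟩, hxU⟩
  change res le_top (h.appTop s) = res le_top t
  rw [res_app_top, show res (le_top : g ⁻¹ᵁ U.1.1 ≤ ⊤) s = g.app U.1.1 (t' U.1) from hs U,
    app_congr_comp h g (𝟙 _) J.subschemeι
      (by rw [Category.id_comp]; exact Scheme.IdealSheafData.inclusion_subschemeι _) U.1.1
      (le_of_eq (by rw [← Scheme.Hom.comp_preimage, Scheme.IdealSheafData.inclusion_subschemeι]; rfl)) (t' U.1),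
    ht']
  exact res_res _ _ _

theorem image_basicOpen_inclusion {I J : S.IdealSheafData} (h : I ≤ J) (s : Γ(I.subscheme, ⊤))
    {x : S} (hx : x ∈ (J.support : Set S))
    (hxs : x ∈ I.subschemeι '' (I.subscheme.basicOpen s : Set I.subscheme)) :
    x ∈ J.subschemeι '' (J.subscheme.basicOpen ((Scheme.IdealSheafData.inclusion h).appTop s) :
      Set J.subscheme) := by
  obtain ⟨y, hy, rfl⟩ := hxs
  rw [← Scheme.IdealSheafData.range_subschemeι] at hx
  obtain ⟨z, hz⟩ := hx
  refine ⟨z, ?_, hz⟩
  rw [SetLike.mem_coe, ← Scheme.preimage_basicOpen_top]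
  change Scheme.IdealSheafData.inclusion h z ∈ I.subscheme.basicOpen s
  have : Scheme.IdealSheafData.inclusion h z = y := I.subschemeι.isClosedEmbedding.injective (by
    rw [← Scheme.Hom.comp_apply, Scheme.IdealSheafData.inclusion_subschemeι, hz])
  rw [this]
  exact hy

/-- Affineness of closed subsets passes from a directed intersection to one of the stages. -/
theorem exists_isAffine_stage [CompactSpace S] [S.IsSeparated] {ι : Type u} [Nonempty ι]
    (I : ι → S.IdealSheafData) (hI : Directed (· ≤ ·) I) [IsAffine (⨆ i, I i).subscheme] :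
    ∃ i, IsAffine (I i).subscheme := by
  classical
  let J := ⨆ i, I i
  have hbasis : ∀ z : J.subscheme, ∃ (U : S.affineOpens) (t : Γ(J.subscheme, ⊤)),
      z ∈ J.subscheme.basicOpen t ∧ J.subscheme.basicOpen t ≤ J.subschemeι ⁻¹ᵁ U.1 := by
    intro z
    obtain ⟨_, ⟨U, hU, rfl⟩, hzU, -⟩ := S.isBasis_affineOpens.exists_subset_of_mem_open
      (Set.mem_univ (J.subschemeι z)) isOpen_univ
    obtain ⟨_, ⟨_, ⟨t, rfl⟩, rfl⟩, hzt, htU⟩ := (isBasis_basicOpen J.subscheme).exists_subset_of_mem_open
      (show z ∈ J.subschemeι ⁻¹ᵁ U from hzU) (J.subschemeι ⁻¹ᵁ U).2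
    exact ⟨⟨U, hU⟩, t, hzt, htU⟩
  choose U t hzt htU using hbasis
  have hspan : Ideal.span (Set.range t) = ⊤ := by
    rw [← (isAffineOpen_top J.subscheme).iSup_basicOpen_eq_self_iff]
    refine eq_top_iff.mpr fun z _ => ?_
    exact Opens.mem_iSup.mpr ⟨⟨t z, z, rfl⟩, hzt z⟩
  obtain ⟨c, hc⟩ := Finsupp.mem_ideal_span_range_iff_exists_finsupp.mp
    (hspan ▸ Submodule.mem_top : (1 : Γ(J.subscheme, ⊤)) ∈ Ideal.span (Set.range t))
  choose it st hst using fun z : J.subscheme => exists_lift_stage I hI (t z)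
  choose ic sc hsc using fun z : J.subscheme => exists_lift_stage I hI (c z)
  obtain ⟨i, hi⟩ := hI.finset_le (c.support.image it ∪ c.support.image ic)
  have hit : ∀ z : c.support, I (it z.1) ≤ I i := fun z =>
    hi _ (Finset.mem_union_left _ (Finset.mem_image_of_mem it z.2))
  have hic : ∀ z : c.support, I (ic z.1) ≤ I i := fun z =>
    hi _ (Finset.mem_union_right _ (Finset.mem_image_of_mem ic z.2))
  let a : c.support → Γ((I i).subscheme, ⊤) := fun z =>
    (Scheme.IdealSheafData.inclusion (hit z)).appTop (st z.1)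
  let b : c.support → Γ((I i).subscheme, ⊤) := fun z =>
    (Scheme.IdealSheafData.inclusion (hic z)).appTop (sc z.1)
  let r := Scheme.IdealSheafData.inclusion (le_iSup I i)
  have hra : ∀ z, r.appTop (a z) = t z.1 := fun z => by
    rw [← CommRingCat.comp_apply, ← Scheme.Hom.comp_appTop, Scheme.IdealSheafData.inclusion_comp]
    exact hst z.1
  have hrb : ∀ z, r.appTop (b z) = c z.1 := fun z => by
    rw [← CommRingCat.comp_apply, ← Scheme.Hom.comp_appTop, Scheme.IdealSheafData.inclusion_comp]
    exact hsc z.1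
  let u := ∑ z, b z * a z
  have hru : r.appTop u = 1 := by
    rw [map_sum]
    simp only [map_mul, hra, hrb]
    rw [Finset.sum_coe_sort c.support fun z => c z * t z]
    exact hc
  let g := (I i).subschemeι
  haveI : CompactSpace (I i).subscheme := g.isClosedEmbedding.compactSpace
  haveI : QuasiSeparatedSpace (I i).subscheme := quasiSeparatedSpace_of_quasiSeparated g
  -- the bad set, empty in the limit
  let B : Set S :=
    (⋃ z : c.support, g '' ((I i).subscheme.basicOpen (a z) : Set (I i).subscheme) ∩ ((U z.1).1 : Set S)ᶜ) ∪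
      g '' ((I i).subscheme.basicOpen u : Set (I i).subscheme)ᶜ
  have hB : IsCompact B := by
    refine IsCompact.union (isCompact_iUnion fun z => ?_) ?_
    · exact (((isCompact_basicOpen _ (U := ⊤) isCompact_univ (a z)).image g.continuous).inter_right
        (U z.1).1.2.isClosed_compl)
    · exact ((Opens.isOpen _).isClosed_compl.isCompact).image g.continuous
  have hempty : B ∩ ⋂ j, ((I j).support : Set S) = ∅ := by
    rw [Set.eq_empty_iff_forall_notMem]
    rintro x ⟨hxB, hx⟩
    have hxJ : x ∈ (J.support : Set S) := by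
      change x ∈ ((⨆ j, I j).support : Set S)
      rw [Scheme.IdealSheafData.support_iSup, Closeds.coe_iInf]
      exact hx
    rcases hxB with hxB | hxB
    · obtain ⟨z, hxz, hxU⟩ := Set.mem_iUnion.mp hxB
      obtain ⟨w, hw, rfl⟩ := image_basicOpen_inclusion (le_iSup I i) (a z) hxJ hxz
      rw [SetLike.mem_coe, hra] at hw
      exact hxU (htU z.1 hw)
    · obtain ⟨y, hy, rfl⟩ := hxB
      rw [← Scheme.IdealSheafData.range_subschemeι] at hxJ
      obtain ⟨w, hw⟩ := hxJ
      have hrw : r w = y := g.isClosedEmbedding.injective (by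
        rw [← Scheme.Hom.comp_apply, Scheme.IdealSheafData.inclusion_subschemeι, hw])
      apply hy
      rw [← hrw]
      change w ∈ r ⁻¹ᵁ (I i).subscheme.basicOpen u
      rw [Scheme.preimage_basicOpen_top, hru, Scheme.basicOpen_of_isUnit _ isUnit_one]
      trivial
  obtain ⟨j₀, hj₀⟩ := hB.elim_directed_family_closed (fun j => ((I j).support : Set S))
    (fun j => (I j).support.isClosed) hempty (fun j k => by
      obtain ⟨l, hjl, hkl⟩ := hI j k
      exact ⟨l, Scheme.IdealSheafData.support_antitone hjl, Scheme.IdealSheafData.support_antitone hkl⟩)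
  obtain ⟨j, hij, hj₀j⟩ := hI i j₀
  refine ⟨j, ?_⟩
  let q := Scheme.IdealSheafData.inclusion hij
  have hqg : q ≫ g = (I j).subschemeι := Scheme.IdealSheafData.inclusion_subschemeι _
  have hnot : ∀ y : (I j).subscheme, (I j).subschemeι y ∉ B := fun y hy =>
    (Set.eq_empty_iff_forall_notMem.mp hj₀) _ ⟨hy, Scheme.IdealSheafData.support_antitone hj₀j
      (show (I j).subschemeι y ∈ ((I j).support : Set S) by
        rw [← Scheme.IdealSheafData.range_subschemeι]; exact ⟨y, rfl⟩)⟩
  refine isAffine_of_isAffineOpen_basicOpen (Set.range fun z => q.appTop (a z)) ?_ ?_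
  · have hu : IsUnit (q.appTop u) := by
      refine (I j).subscheme.toRingedSpace.isUnit_of_isUnit_germ ⊤ _ fun y _ => ?_
      have hy : y ∈ (I j).subscheme.basicOpen (q.appTop u) := by
        rw [← Scheme.preimage_basicOpen_top]
        by_contra hy
        refine hnot y (Or.inr ⟨q y, hy, ?_⟩)
        rw [← Scheme.Hom.comp_apply, hqg]
      exact (Scheme.mem_basicOpen_top _ _ _).mp hy
    refine Ideal.eq_top_of_isUnit_mem _ ?_ hu
    rw [map_sum]
    refine Ideal.sum_mem _ fun z _ => ?_
    rw [map_mul]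
    exact Ideal.mul_mem_left _ _ (Ideal.subset_span ⟨z, rfl⟩)
  · rintro _ ⟨z, rfl⟩
    have hle : (I j).subscheme.basicOpen (q.appTop (a z)) ≤ (I j).subschemeι ⁻¹ᵁ (U z.1).1 := by
      intro y hy
      rw [← Scheme.preimage_basicOpen_top] at hy
      by_contra hyU
      refine hnot y (Or.inl (Set.mem_iUnion.mpr ⟨z, ⟨q y, hy, ?_⟩, hyU⟩))
      rw [← Scheme.Hom.comp_apply, hqg]
    have hV : IsAffineOpen ((I j).subschemeι ⁻¹ᵁ (U z.1).1) := (U z.1).2.preimage _
    have e : (I j).subscheme.basicOpen (res (le_top : (I j).subschemeι ⁻¹ᵁ (U z.1).1 ≤ ⊤) (q.appTop (a z))) =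
        (I j).subscheme.basicOpen (q.appTop (a z)) := by
      rw [Scheme.basicOpen_res]
      exact inf_eq_right.mpr hle
    exact e ▸ hV.basicOpen _

/-- Chevalley's theorem for an integral morphism to a separated scheme. -/
theorem isAffine_of_isIntegralHom {X : Scheme.{u}} [S.IsSeparated] [IsAffine X] (f : X ⟶ S)
    [IsIntegralHom f] [Surjective f] : IsAffine S := by
  classical
  haveI : CompactSpace S := f.surjective.compactSpace f.continuous
  by_contra hS
  let Bad : Set (Set S) := {A | ∃ h : IsClosed A, ¬ IsAffine (redSub ⟨A, h⟩)}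
  have htop : Set.univ ∈ Bad := by
    refine ⟨isClosed_univ, fun h => hS ?_⟩
    haveI := h
    exact isAffine_of_range_eq (𝟙 S) ⟨Set.univ, isClosed_univ⟩ (by simp)
  have hchain : ∀ c ⊆ Bad, IsChain (· ⊆ ·) c → c.Nonempty → ∃ lb ∈ Bad, ∀ s ∈ c, lb ⊆ s := by
    intro c hc hch hne
    haveI : Nonempty c := hne.to_subtype
    let Zc : c → Closeds S := fun A => ⟨A.1, (hc A.2).choose⟩
    let I : c → S.IdealSheafData := fun A => Scheme.IdealSheafData.vanishingIdeal (Zc A)
    have hI : Directed (· ≤ ·) I := fun A B => by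
      rcases hch.total A.2 B.2 with h | h
      · exact ⟨A, le_rfl, Scheme.IdealSheafData.vanishingIdeal_antimono h⟩
      · exact ⟨B, Scheme.IdealSheafData.vanishingIdeal_antimono h, le_rfl⟩
    refine ⟨⋂₀ c, ⟨isClosed_sInter fun A hA => (hc hA).choose, fun h => ?_⟩,
      fun s hs => Set.sInter_subset_of_mem hs⟩
    haveI := h
    haveI : IsAffine (⨆ A, I A).subscheme := by
      refine isAffine_of_range_eq (⨆ A, I A).subschemeι ⟨⋂₀ c, _⟩ ?_
      rw [Scheme.IdealSheafData.range_subschemeι, Scheme.IdealSheafData.support_iSup,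
        Closeds.coe_iInf]
      simp only [I, Groth.L18.support_vanishingIdeal, Zc]
      exact Set.sInter_eq_iInter.symm
    obtain ⟨A, hA⟩ := exists_isAffine_stage I hI
    exact (hc A.2).choose_spec hA
  obtain ⟨m, -, ⟨hm, hmbad⟩, hmin⟩ := zorn_superset_nonempty Bad hchain Set.univ htop
  let M : Closeds S := ⟨m, hm⟩
  let g := (Scheme.IdealSheafData.vanishingIdeal M).subschemeι
  haveI : IsReduced (redSub M) := Groth.L18.isReduced_vanishingIdeal_subscheme M
  haveI : (redSub M).IsSeparated := ⟨by
    rw [← terminal.comp_from g]; infer_instance⟩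
  haveI : IsAffine (pullback f g) := isAffine_of_isAffineHom (pullback.fst f g)
  haveI : Surjective (pullback.snd f g) := MorphismProperty.pullback_snd (P := @Surjective) f g inferInstance
  refine hmbad (isAffine_of_forall (pullback.snd f g) fun Z hZ => ?_)
  let i := (Scheme.IdealSheafData.vanishingIdeal Z).subschemeι ≫ g
  let A : Set S := g '' (Z : Set (redSub M))
  have hA : IsClosed A := g.isClosedEmbedding.isClosedMap _ Z.isClosed
  have hAm : A ⊆ m := fun x ⟨z, _, hz⟩ => by
    rw [← hz]
    exact (range_redSub M).le ⟨z, rfl⟩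
  haveI : IsAffine (redSub (⟨A, hA⟩ : Closeds S)) := by
    by_contra hbad
    have hmA : m ⊆ A := hmin ⟨hA, hbad⟩ hAm
    refine hZ (Set.eq_univ_of_forall fun z => ?_)
    have hgz : g z ∈ (M : Set S) := (range_redSub M).le ⟨z, rfl⟩
    obtain ⟨z', hz', h⟩ := hmA hgz
    exact g.isClosedEmbedding.injective h ▸ hz'
  refine isAffine_of_range_eq i ⟨A, hA⟩ ?_
  rw [Scheme.Hom.comp_base, TopCat.coe_comp, Set.range_comp, range_redSub]
  rfl

/-- **Chevalley's theorem**: the target of a surjective universally closed morphism from an affine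
scheme is affine. -/
theorem isAffine_of_surjective_universallyClosed {X : Scheme.{u}} (f : X ⟶ S) [IsAffine X]
    [Surjective f] [UniversallyClosed f] : IsAffine S := by
  haveI : S.IsSeparated := ⟨by
    haveI : IsSeparated (f ≫ terminal.from S) := by
      rw [terminal.comp_from]; infer_instance
    exact Groth.L19.isSeparated_of_surjective_universallyClosed f (terminal.from S)⟩
  haveI : IsAffineHom f := by
    haveI : IsAffineHom (f ≫ terminal.from S) := isAffineHom_of_isAffine _
    exact IsAffineHom.of_comp f (terminal.from S)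
  haveI : IsIntegralHom f :=
    IsIntegralHom.iff_universallyClosed_and_isAffineHom.mpr ⟨inferInstance, inferInstance⟩
  exact isAffine_of_isIntegralHom f

end Groth.L20.Chevalley
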