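import Groth.Agent.L20.Chevalley.Glue
import Groth.Agent.L20.Chevalley.Birat

/-!
# The conductor of a finite birational morphism, and the integral case of Chevalley's theorem
-/

universe u

open CategoryTheory CategoryTheory.Limits AlgebraicGeometry TopologicalSpace Opposite

namespace Groth.L20.Chevalley

open Groth.L20.ThickAffine (res res_res res_rfl app_res exists_pow_mul_eq_zero)

set_option linter.style.haveILetI false
set_option backward.isDefEq.respectTransparency.types false
set_option backward.isDefEq.respectTransparency false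
set_option backward.defeqAttrib.useBackward true

variable {S W : Scheme.{u}}

/-- The conductor of a ring map. -/
def ringCond {A B : Type u} [CommRing A] [CommRing B] (φ : A →+* B) : Ideal A where
  carrier := {r | ∀ y : B, φ r * y ∈ φ.range}
  zero_mem' y := by rw [map_zero, zero_mul]; exact zero_mem _
  add_mem' {r r'} hr hr' y := by rw [map_add, add_mul]; exact add_mem (hr y) (hr' y)
  smul_mem' c r hr y := by
    rw [smul_eq_mul, map_mul, mul_assoc]
    obtain ⟨e, he⟩ := hr y
    exact ⟨c * e, by rw [map_mul, he]⟩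

theorem mem_ringCond {A B : Type u} [CommRing A] [CommRing B] {φ : A →+* B} {r : A} :
    r ∈ ringCond φ ↔ ∀ y, φ r * y ∈ φ.range := Iff.rfl

/-- The conductor of a finite ring map commutes with inverting an element. -/
theorem ringCond_map {A A' B B' : Type u} [CommRing A] [CommRing A'] [CommRing B] [CommRing B']
    (φ : A →+* B) (φ' : A' →+* B') (ρ : A →+* A') (ρ' : B →+* B') (hφ : φ.Finite)
    (comm : ∀ a, φ' (ρ a) = ρ' (φ a)) (f : A) (hu : IsUnit (ρ f))
    (hA : ∀ a' : A', ∃ (n : ℕ) (a : A), a' * ρ f ^ n = ρ a)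
    (hB : ∀ b' : B', ∃ (n : ℕ) (b : B), b' * ρ' (φ f) ^ n = ρ' b)
    (hker : ∀ b : B, ρ' b = 0 → ∃ M : ℕ, ∀ m ≥ M, φ f ^ m * b = 0) :
    (ringCond φ).map ρ = ringCond φ' := by
  classical
  obtain ⟨v, hv⟩ := hu
  refine le_antisymm (Ideal.map_le_iff_le_comap.mpr fun r hr y' => ?_) fun r' hr' => ?_
  · obtain ⟨n, y, hy⟩ := hB y'
    obtain ⟨e, he⟩ := mem_ringCond.mp hr y
    refine ⟨ρ e * (↑(v⁻¹) : A') ^ n, ?_⟩
    have h : φ' (ρ e) = φ' (ρ r) * y' * φ' (ρ f ^ n) := by
      rw [comm, he, map_mul, ← comm, ← hy, map_pow, comm f, mul_assoc]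
    rw [map_mul, h, mul_assoc, ← map_mul, ← mul_pow, ← hv, Units.mul_inv, one_pow, map_one, mul_one]
  · obtain ⟨n, r, hr⟩ := hA r'
    letI : Algebra A B := φ.toAlgebra
    haveI : Module.Finite A B := hφ
    obtain ⟨G, hG⟩ := (inferInstance : Module.Finite A B).fg_top
    have key : ∀ y : B, ∃ M : ℕ, ∀ m ≥ M, φ (r * f ^ m) * y ∈ φ.range := by
      intro y
      obtain ⟨e', he'⟩ := mem_ringCond.mp hr' (ρ' y)
      obtain ⟨m, e, he⟩ := hA (e' * ρ f ^ n)
      have h2 : ρ' (φ r * y * φ f ^ m - φ e) = 0 := by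
        rw [map_sub, map_mul, map_mul, map_pow, ← comm, ← comm, ← comm, ← he, ← hr, map_mul, map_mul,
          map_mul, map_pow, map_pow, he', sub_eq_zero]
        ring
      obtain ⟨M, hM⟩ := hker _ h2
      refine ⟨m + M, fun k hk => ?_⟩
      obtain ⟨j, rfl⟩ := Nat.exists_eq_add_of_le hk
      refine ⟨e * f ^ (M + j), ?_⟩
      have h3 := hM (M + j) (Nat.le_add_right _ _)
      rw [mul_sub, sub_eq_zero] at h3
      rw [map_mul, map_mul, map_pow, map_pow, mul_comm _ (_ ^ (M + j)), ← h3, add_assoc, pow_add _ m]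
      ring
    choose M hM using key
    have hmem : r * f ^ G.sup M ∈ ringCond φ := by
      intro y
      have hy : y ∈ Submodule.span A (G : Set B) := by rw [hG]; trivial
      induction hy using Submodule.span_induction with
      | mem y hy => exact hM y _ (Finset.le_sup hy)
      | zero => rw [mul_zero]; exact zero_mem _
      | add a b _ _ ha hb => rw [mul_add]; exact add_mem ha hb
      | smul c y _ hy =>
        rw [Algebra.smul_def, mul_left_comm]
        exact mul_mem ⟨c, rfl⟩ hy
    have hr2 : r' = ρ (r * f ^ G.sup M) * (↑(v⁻¹) : A') ^ (n + G.sup M) := by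
      rw [map_mul, map_pow, ← hr, mul_assoc r', ← pow_add, mul_assoc, ← mul_pow, ← hv,
        Units.mul_inv, one_pow, mul_one]
    rw [hr2]
    exact Ideal.mul_mem_right _ _ (Ideal.mem_map_of_mem _ hmem)

/-- The conductor on an affine open. -/
def condIdeal (π : W ⟶ S) (U : S.affineOpens) : Ideal Γ(S, U.1) := ringCond (π.app U.1).hom

theorem exists_mul_pow_eq_res {U V : S.Opens} (hU : IsAffineOpen U) (f : Γ(S, U))
    (hV : V = S.basicOpen f) (h : V ≤ U) (a' : Γ(S, V)) :
    ∃ (n : ℕ) (a : Γ(S, U)), a' * res h f ^ n = res h a := by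
  subst hV
  haveI := hU.isLocalization_basicOpen f
  obtain ⟨⟨a, s, n, rfl⟩, h⟩ := IsLocalization.surj (Submonoid.powers f) a'
  rw [map_pow] at h
  exact ⟨n, a, h⟩

theorem condIdeal_map (π : W ⟶ S) [IsFinite π] (U : S.affineOpens) (f : Γ(S, U.1)) :
    (condIdeal π U).map (S.presheaf.map (homOfLE (S.basicOpen_le f)).op).hom =
      condIdeal π (S.affineBasicOpen f) := by
  have hle' : π ⁻¹ᵁ S.basicOpen f ≤ π ⁻¹ᵁ U.1 := π.preimage_mono (S.basicOpen_le f)
  have hW : IsAffineOpen (π ⁻¹ᵁ U.1) := U.2.preimage π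
  have hV' : π ⁻¹ᵁ S.basicOpen f = W.basicOpen (π.app U.1 f) := Scheme.preimage_basicOpen π f
  exact ringCond_map (π.app U.1).hom (π.app (S.basicOpen f)).hom _
    (W.presheaf.map (homOfLE hle').op).hom (π.finite_app U.1 U.2)
    (fun a => app_res π (S.basicOpen_le f) a) f (S.toRingedSpace.isUnit_res_basicOpen f)
    (exists_mul_pow_eq_res U.2 f rfl (S.basicOpen_le f))
    (exists_mul_pow_eq_res hW _ hV' hle') (exists_pow_mul_eq_zero hW _ hV' hle')

/-- The conductor ideal sheaf of a finite morphism. -/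
noncomputable def conductor (π : W ⟶ S) [IsFinite π] : S.IdealSheafData where
  ideal := condIdeal π
  map_ideal_basicOpen := condIdeal_map π

/-- The integral case: if all proper closed subschemes are affine, so is the scheme. -/
theorem isAffine_of_integral {X : Scheme.{u}} [IsIntegral S] [S.IsSeparated] [IsAffine X]
    (f : X ⟶ S) [IsIntegralHom f] [Surjective f]
    (H : ∀ J : S.IdealSheafData, (J.support : Set S) ≠ Set.univ → IsAffine J.subscheme) :
    IsAffine S := by
  classical
  obtain ⟨W, π, _, _, _, hε⟩ := exists_birational f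
  have hinj : ∀ U : S.affineOpens, ∀ s, π.app U.1 s = 0 → s = 0 := by
    intro U s hs
    refine eq_zero_of_basicOpen_eq_bot s (eq_bot_iff.mpr fun x hx => ?_)
    have hη : genericPoint S ∈ U.1 :=
      ((genericPoint_spec S).mem_open_set_iff U.1.2).mpr ⟨x, trivial, S.basicOpen_le s hx⟩
    haveI : Nonempty U.1 := ⟨⟨_, hη⟩⟩
    obtain ⟨ε, -, hεc⟩ := hε U.1 U.2 hη
    have h : s = 0 := by
      refine S.germToFunctionField_injective U.1 ?_
      rw [map_zero]
      refine (RingHom.congr_fun hεc s).symm.trans ?_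
      change ε (π.app U.1 s) = 0
      rw [hs, map_zero]
    rw [h, Scheme.basicOpen_zero] at hx
    exact hx
  let C := conductor π
  let J := (C.comap π).map π
  have hJ : ∀ U : S.affineOpens,
      J.ideal U = ((C.ideal U).map (π.app U.1).hom).comap (π.app U.1).hom := fun U => by
    rw [Scheme.IdealSheafData.ideal_map_of_isAffineHom,
      Groth.L22.Ideals.comap_ideal π C U ⟨_, U.2.preimage π⟩ le_rfl, ← Scheme.Hom.app_eq_appLE]
  have hrange : ∀ U : S.affineOpens, ∀ z ∈ (C.ideal U).map (π.app U.1).hom,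
      ∀ b, z * b ∈ (π.app U.1).hom.range := by
    intro U z hz
    induction hz using Submodule.span_induction with
    | mem x hx => obtain ⟨r, hr, rfl⟩ := hx; exact fun b => mem_ringCond.mp hr b
    | zero => intro b; rw [zero_mul]; exact zero_mem _
    | add x y _ _ hx hy => intro b; rw [add_mul]; exact add_mem (hx b) (hy b)
    | smul c x _ hx =>
      intro b
      rw [smul_eq_mul, mul_comm c, mul_assoc]
      exact hx (c * b)
  have hglue : GlueData π J := by
    refine ⟨fun x => Or.inl (π.surjective x), fun U s _ h => hinj U s h, fun U r hr b => ?_⟩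
    rw [hJ, Ideal.mem_comap] at hr
    obtain ⟨r', hr'⟩ := hrange U _ hr b
    refine ⟨r', ?_, hr'⟩
    rw [hJ, Ideal.mem_comap, show (π.app U.1).hom r' = _ from hr']
    exact Ideal.mul_mem_right _ _ hr
  have hJsupp : (J.support : Set S) ≠ Set.univ := by
    intro huniv
    obtain ⟨_, ⟨U, hU, rfl⟩, hη, -⟩ := S.isBasis_affineOpens.exists_subset_of_mem_open
      (Set.mem_univ (genericPoint S)) isOpen_univ
    haveI : Nonempty U := ⟨⟨_, hη⟩⟩
    obtain ⟨ε, hεi, hεc⟩ := hε U hU hη
    haveI := functionField_isFractionRing_of_isAffineOpen S U hU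
    letI : Algebra Γ(S, U) Γ(W, π ⁻¹ᵁ U) := (π.app U).hom.toAlgebra
    haveI : Module.Finite Γ(S, U) Γ(W, π ⁻¹ᵁ U) := π.finite_app U hU
    obtain ⟨G, hG⟩ := (inferInstance : Module.Finite Γ(S, U) Γ(W, π ⁻¹ᵁ U)).fg_top
    have hd : ∀ y : Γ(W, π ⁻¹ᵁ U), ∃ d : Γ(S, U), d ≠ 0 ∧ π.app U d * y ∈ (π.app U).hom.range := by
      intro y
      obtain ⟨⟨e, d⟩, hed⟩ := IsLocalization.surj (nonZeroDivisors Γ(S, U)) (ε y)
      refine ⟨d.1, nonZeroDivisors.ne_zero d.2, e, hεi ?_⟩
      rw [map_mul]
      have h1 := RingHom.congr_fun hεc d.1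
      have h2 := RingHom.congr_fun hεc e
      rw [RingHom.comp_apply] at h1 h2
      rw [h1, h2, mul_comm]
      exact hed.symm
    choose d hd0 hd using hd
    let D := ∏ y ∈ G, d y
    have hDC : D ∈ C.ideal ⟨U, hU⟩ := by
      intro y
      have hy : y ∈ Submodule.span Γ(S, U) (G : Set Γ(W, π ⁻¹ᵁ U)) := by rw [hG]; trivial
      induction hy using Submodule.span_induction with
      | mem y hy =>
        rw [show D = d y * ∏ z ∈ G.erase y, d z from (Finset.mul_prod_erase G d hy).symm, map_mul,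
          mul_right_comm]
        exact mul_mem (hd y) ⟨_, rfl⟩
      | zero => rw [mul_zero]; exact zero_mem _
      | add a b _ _ ha hb => rw [mul_add]; exact add_mem ha hb
      | smul c y _ hy =>
        rw [Algebra.smul_def, mul_left_comm]
        exact mul_mem ⟨c, rfl⟩ hy
    have hDJ : D ∈ J.ideal ⟨U, hU⟩ := by
      rw [hJ, Ideal.mem_comap]
      exact Ideal.mem_map_of_mem _ hDC
    have hDne : D ≠ 0 := Finset.prod_ne_zero_iff.mpr fun y _ => hd0 y
    have hηD : genericPoint S ∈ S.basicOpen D := by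
      refine ((genericPoint_spec S).mem_open_set_iff (S.basicOpen D).2).mpr ?_
      rw [Set.univ_inter]
      by_contra hne
      exact hDne (eq_zero_of_basicOpen_eq_bot D
        (eq_bot_iff.mpr fun x hx => hne ⟨x, hx⟩))
    have hmem : genericPoint S ∈ (J.support : Set S) ∩ U := ⟨huniv ▸ trivial, hη⟩
    rw [Scheme.IdealSheafData.coe_support_inter J ⟨U, hU⟩] at hmem
    exact (Scheme.mem_zeroLocus_iff _ _ _).mp hmem.1 D hDJ hηD
  haveI := H J hJsupp
  exact hglue.isAffine

end Groth.L20.Chevalley
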