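import Mathlib.AlgebraicGeometry.Morphisms.Integral
import Mathlib.AlgebraicGeometry.Morphisms.Separated
import Mathlib.AlgebraicGeometry.FunctionField
import Mathlib.AlgebraicGeometry.AffineSpace
import Mathlib.FieldTheory.IsAlgClosed.AlgebraicClosure
import Mathlib.FieldTheory.Normal.Basic
import Mathlib.RingTheory.IntegralClosure.IntegralRestrict

/-!
# A Galois stable affine cover of an integral scheme dominated by an affine one

Given `f : X ⟶ S` integral surjective with `X` affine and `S` integral, we build `Spec B' ⟶ S`,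
integral and surjective, with `B'` a subring of the algebraic closure of the function field stable
under its automorphisms, and show that the elements of the function field in `B'` separate.
-/

universe u

open CategoryTheory CategoryTheory.Limits AlgebraicGeometry TopologicalSpace Opposite Polynomial

namespace Groth.L20.Chevalley

set_option linter.style.haveILetI false
set_option backward.isDefEq.respectTransparency.types false
set_option linter.overlappingInstances false
set_option linter.unusedSectionVars false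

variable {X S : Scheme.{u}}

/-- A geometric point lifts along an integral surjective morphism. -/
theorem exists_geom_lift (f : X ⟶ S) [IsIntegralHom f] [Surjective f] (Ω : Type u) [Field Ω]
    [IsAlgClosed Ω] (γ : Spec (CommRingCat.of Ω) ⟶ S) :
    ∃ φ : Spec (CommRingCat.of Ω) ⟶ X, φ ≫ f = γ := by
  let p := pullback.snd f γ
  haveI : IsAffine (pullback f γ) := isAffine_of_isAffineHom p
  haveI : Surjective p := MorphismProperty.pullback_snd (P := @Surjective) f γ inferInstance
  haveI : Nonempty ↑(pullback f γ) := ⟨(p.surjective default).choose⟩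
  let R := Γ(pullback f γ, ⊤)
  let ψ : CommRingCat.of Ω ⟶ R := (Scheme.ΓSpecIso _).inv ≫ p.appTop
  have hψ : ψ.hom.IsIntegral := by
    haveI : IsIntegralHom p := inferInstanceAs (IsIntegralHom (pullback.snd f γ))
    have h : p.appTop.hom.IsIntegral :=
      ((HasAffineProperty.iff_of_isAffine (P := @IsIntegralHom)).mp ‹IsIntegralHom p›).2
    exact RingHom.IsIntegral.trans _ _
      (RingHom.isIntegral_of_surjective _
        (Scheme.ΓSpecIso _).symm.commRingCatIsoToRingEquiv.surjective) h
  haveI : Nontrivial R := PrimeSpectrum.nonempty_iff_nontrivial.mp (Nonempty.map (pullback f γ).isoSpec.hom.base this)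
  obtain ⟨m, hm⟩ := Ideal.exists_maximal R
  letI := Ideal.Quotient.field m
  letI : Algebra Ω (R ⧸ m) := ((Ideal.Quotient.mk m).comp ψ.hom).toAlgebra
  haveI : Algebra.IsIntegral Ω (R ⧸ m) := ⟨RingHom.IsIntegral.trans _ _ hψ
    (RingHom.isIntegral_of_surjective _ Ideal.Quotient.mk_surjective)⟩
  let e : Ω ≃+* R ⧸ m :=
    RingEquiv.ofBijective _ (IsAlgClosed.algebraMap_bijective_of_isIntegral (k := Ω) (K := R ⧸ m))
  let r : R ⟶ CommRingCat.of Ω := CommRingCat.ofHom (e.symm.toRingHom.comp (Ideal.Quotient.mk m))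
  refine ⟨Spec.map r ≫ (pullback f γ).isoSpec.inv ≫ pullback.fst f γ, ?_⟩
  have hp : Spec.map r ≫ (pullback f γ).isoSpec.inv ≫ p = 𝟙 _ := by
    rw [← Scheme.isoSpec_inv_naturality, Scheme.isoSpec_Spec_inv, ← Spec.map_comp_assoc,
      ← Spec.map_comp, ← Spec.map_id]
    congr 1
    ext x
    exact e.symm_apply_apply x
  simp only [Category.assoc, pullback.condition]
  exact (reassoc_of% hp) γ

variable (f : X ⟶ S)

/-- The data: a geometric point of `X` over the generic point. -/
structure GenPoint (f : X ⟶ S) [IsIntegral S] where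
  φ : Spec (CommRingCat.of (AlgebraicClosure S.functionField)) ⟶ X
  hφ : φ ≫ f = Spec.map (CommRingCat.ofHom (algebraMap S.functionField _)) ≫
    S.fromSpecStalk (genericPoint S)

variable {f} [IsIntegral S] (G : GenPoint f)

local notation "Ω" => AlgebraicClosure (Scheme.functionField S)

/-- The generic geometric point of `S`. -/
noncomputable abbrev geomGen (S : Scheme.{u}) [IsIntegral S] :
    Spec (CommRingCat.of (AlgebraicClosure S.functionField)) ⟶ S :=
  Spec.map (CommRingCat.ofHom (algebraMap S.functionField _)) ≫ S.fromSpecStalk (genericPoint S)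

/-- The map on global functions. -/
noncomputable def GenPoint.ev : Γ(X, ⊤) →+* Ω :=
  (G.φ.appTop ≫ (Scheme.ΓSpecIso (CommRingCat.of Ω)).hom).hom

/-- The integral closure of the functions of `X` in `Ω`. -/
noncomputable def GenPoint.sub : Subring Ω :=
  (integralClosure G.ev.range Ω).toSubring

theorem GenPoint.mem_sub {x : Ω} : x ∈ G.sub ↔ IsIntegral G.ev.range x := Iff.rfl

theorem GenPoint.ev_mem (b : Γ(X, ⊤)) : G.ev b ∈ G.sub :=
  isIntegral_algebraMap (x := (⟨G.ev b, b, rfl⟩ : G.ev.range))

theorem GenPoint.mem_of_isIntegral {x : Ω} (h : IsIntegral G.sub x) : x ∈ G.sub := by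
  haveI : Algebra.IsIntegral G.ev.range (integralClosure G.ev.range Ω) :=
    integralClosure.AlgebraIsIntegral ..
  exact isIntegral_trans (R := G.ev.range) (A := integralClosure G.ev.range Ω) x h

variable [IsAffine X] [IsAffineHom f]

theorem GenPoint.map_ev_mem [IsIntegralHom f] (σ : Ω ≃ₐ[S.functionField] Ω) (b : Γ(X, ⊤)) :
    σ (G.ev b) ∈ G.sub := by
  let sσ : Spec (CommRingCat.of Ω) ⟶ Spec (CommRingCat.of Ω) :=
    Spec.map (CommRingCat.ofHom (σ : Ω →+* Ω))
  have hσ : (sσ ≫ G.φ) ≫ f = G.φ ≫ f := by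
    rw [Category.assoc, G.hφ, ← Spec.map_comp_assoc]
    congr 2
    ext x
    exact σ.commutes x
  haveI : IsAffine (pullback f f) := isAffine_of_isAffineHom (pullback.fst f f)
  let χ : Γ(pullback f f, ⊤) →+* Ω :=
    ((pullback.lift G.φ (sσ ≫ G.φ) hσ.symm).appTop ≫ (Scheme.ΓSpecIso (CommRingCat.of Ω)).hom).hom
  have h1 : χ.comp (pullback.fst f f).appTop.hom = G.ev := by
    rw [GenPoint.ev, ← CommRingCat.hom_comp, ← Scheme.Hom.comp_appTop_assoc, pullback.lift_fst]
  have h2 : χ ((pullback.snd f f).appTop b) = σ (G.ev b) := by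
    change ((pullback.snd f f).appTop ≫ _ ≫ _) b = _
    rw [← Scheme.Hom.comp_appTop_assoc, pullback.lift_snd, Scheme.Hom.comp_appTop, Category.assoc,
      Scheme.ΓSpecIso_naturality]
    rfl
  obtain ⟨p, hp, hp0⟩ : (pullback.fst f f).appTop.hom.IsIntegralElem ((pullback.snd f f).appTop b) :=
    ((HasAffineProperty.iff_of_isAffine (P := @IsIntegralHom)).mp
      (inferInstanceAs (IsIntegralHom (pullback.fst f f)))).2 _
  refine ⟨p.map G.ev.rangeRestrict, hp.map _, ?_⟩
  have h := congrArg χ hp0
  rw [map_zero, Polynomial.hom_eval₂, h1, h2] at h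
  rw [Polynomial.eval₂_map]
  exact h

theorem GenPoint.map_mem [IsIntegralHom f] (σ : Ω ≃ₐ[S.functionField] Ω) {x : Ω} (hx : x ∈ G.sub) :
    σ x ∈ G.sub := by
  refine G.mem_of_isIntegral ?_
  obtain ⟨p, hp, hp0⟩ := hx
  let ρ : G.ev.range →+* G.sub :=
    ((σ : Ω →+* Ω).comp G.ev.range.subtype).codRestrict G.sub
      (by rintro ⟨_, b, rfl⟩; exact G.map_ev_mem σ b)
  refine ⟨p.map ρ, hp.map _, ?_⟩
  have h := congrArg (σ : Ω →+* Ω) hp0
  rw [map_zero, Polynomial.hom_eval₂] at h
  rw [Polynomial.eval₂_map]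
  exact h

/-- The restriction of an automorphism to `B'`. -/
noncomputable def GenPoint.res [IsIntegralHom f] (σ : Ω ≃ₐ[S.functionField] Ω) : G.sub →+* G.sub :=
  ((σ : Ω →+* Ω).comp G.sub.subtype).codRestrict G.sub fun x => G.map_mem σ x.2

/-- The scheme `Spec B'`. -/
noncomputable abbrev GenPoint.cover : Scheme.{u} := Spec (CommRingCat.of G.sub)

/-- The map to `X`. -/
noncomputable def GenPoint.toX : G.cover ⟶ X :=
  Spec.map (CommRingCat.ofHom (G.ev.codRestrict G.sub G.ev_mem)) ≫ X.isoSpec.inv

/-- The map to `S`. -/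
noncomputable def GenPoint.toS : G.cover ⟶ S := G.toX ≫ f

/-- The generic point. -/
noncomputable def GenPoint.gen : Spec (CommRingCat.of Ω) ⟶ G.cover :=
  Spec.map (CommRingCat.ofHom G.sub.subtype)

theorem GenPoint.gen_toX : G.gen ≫ G.toX = G.φ := by
  rw [GenPoint.gen, GenPoint.toX, ← Spec.map_comp_assoc,
    show CommRingCat.ofHom (G.ev.codRestrict G.sub G.ev_mem) ≫ CommRingCat.ofHom G.sub.subtype =
      G.φ.appTop ≫ (Scheme.ΓSpecIso (CommRingCat.of Ω)).hom from rfl, Spec.map_comp, Category.assoc,
    Scheme.isoSpec_inv_naturality, Scheme.isoSpec_Spec_inv, ← Spec.map_comp_assoc, Iso.inv_hom_id,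
    Spec.map_id, Category.id_comp]

theorem GenPoint.gen_toS : G.gen ≫ G.toS = geomGen S := by
  rw [GenPoint.toS, reassoc_of% G.gen_toX, G.hφ]

instance GenPoint.isDominant_gen : IsDominant G.gen := by
  refine ⟨(PrimeSpectrum.denseRange_comap_iff_ker_le_nilRadical G.sub.subtype).mpr ?_⟩
  intro x hx
  rw [show x = 0 from Subtype.ext hx]
  exact zero_mem _

theorem GenPoint.isIntegralHom_toX : IsIntegralHom G.toX := by
  haveI : IsIntegralHom (Spec.map (CommRingCat.ofHom (G.ev.codRestrict G.sub G.ev_mem))) := by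
    rw [IsIntegralHom.SpecMap_iff]
    exact RingHom.IsIntegral.trans G.ev.rangeRestrict (algebraMap G.ev.range (integralClosure G.ev.range Ω))
      (RingHom.isIntegral_of_surjective _ G.ev.rangeRestrict_surjective)
      (integralClosure.AlgebraIsIntegral (R := G.ev.range) (A := Ω)).1
  delta GenPoint.toX
  infer_instance

theorem GenPoint.isIntegralHom_toS [IsIntegralHom f] : IsIntegralHom G.toS := by
  haveI := G.isIntegralHom_toX
  delta GenPoint.toS
  infer_instance

theorem GenPoint.surjective_toS [IsIntegralHom f] : Surjective G.toS := by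
  haveI := G.isIntegralHom_toS
  refine ⟨fun s => ?_⟩
  have hcl : IsClosed (Set.range G.toS) := G.toS.isClosedMap.isClosed_range
  have hη : genericPoint S ∈ Set.range G.toS := by
    refine ⟨G.gen default, ?_⟩
    rw [← Scheme.Hom.comp_apply, G.gen_toS]
    change S.fromSpecStalk (genericPoint S) _ = _
    exact (congrArg _ (Subsingleton.elim _ _)).trans Scheme.fromSpecStalk_closedPoint
  have h := hcl.closure_subset_iff.mpr (Set.singleton_subset_iff.mpr hη)
  rw [genericPoint_closure] at h
  exact h trivial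

theorem GenPoint.res_toS [IsIntegralHom f] [S.IsSeparated] (σ : Ω ≃ₐ[S.functionField] Ω) :
    Spec.map (CommRingCat.ofHom (G.res σ)) ≫ G.toS = G.toS := by
  refine ext_of_isDominant G.gen ?_
  have e : G.gen ≫ Spec.map (CommRingCat.ofHom (G.res σ)) =
      Spec.map (CommRingCat.ofHom (σ : Ω →+* Ω)) ≫ G.gen := by
    rw [GenPoint.gen, ← Spec.map_comp, ← Spec.map_comp]
    rfl
  rw [reassoc_of% e, G.gen_toS, geomGen, ← Spec.map_comp_assoc]
  congr 2
  ext x
  exact σ.commutes x

/-- The elements of the function field in `B'`. -/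
noncomputable def GenPoint.subK : Subring S.functionField :=
  G.sub.comap (algebraMap S.functionField Ω)

/-- The inclusion. -/
noncomputable def GenPoint.incl : G.subK →+* G.sub :=
  ((algebraMap S.functionField Ω).comp G.subK.subtype).codRestrict G.sub fun x => x.2

variable [IsIntegralHom f]

/-- The minimal polynomial of an element of `B'` has coefficients in `B'`, and its lower coefficients
lie in every prime containing all conjugates. -/
theorem GenPoint.exists_minpoly (b : G.sub) :
    ∃ P : G.subK[X], P.Monic ∧ (P.map G.incl).eval b = 0 ∧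
      ∀ q : PrimeSpectrum G.sub, (∀ σ : Ω ≃ₐ[S.functionField] Ω, G.res σ b ∈ q.asIdeal) →
        ∀ k < P.natDegree, G.incl (P.coeff k) ∈ q.asIdeal := by
  classical
  have hb : IsIntegral S.functionField (b : Ω) := Algebra.IsIntegral.isIntegral _
  set p := minpoly S.functionField (b : Ω)
  set p' := p.map (algebraMap S.functionField Ω)
  have hroot : ∀ r ∈ p'.roots, ∃ σ : Ω ≃ₐ[S.functionField] Ω, (G.res σ b : Ω) = r := by
    intro r hr
    rw [Polynomial.mem_roots'] at hr
    obtain ⟨σ, hσ⟩ := minpoly.exists_algEquiv_of_root' hb.isAlgebraic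
      (show Polynomial.aeval r p = 0 by rw [Polynomial.aeval_def, ← Polynomial.eval_map]; exact hr.2)
    exact ⟨σ, hσ⟩
  choose τ hτ using hroot
  let R : Multiset G.sub := p'.roots.pmap (fun r hr => G.res (τ r hr) b) fun _ h => h
  let Q : G.sub[X] := (R.map fun r => Polynomial.X - Polynomial.C r).prod
  have hQm : Q.Monic := Polynomial.monic_multiset_prod_of_monic _ _ fun r _ => Polynomial.monic_X_sub_C r
  have hR : R.map G.sub.subtype = p'.roots := by
    rw [Multiset.map_pmap]
    refine Eq.trans (Multiset.pmap_congr (g := fun r (_ : r ∈ p'.roots) => r) (H₂ := fun _ h => h) _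
      fun r _ h _ => hτ r h) ?_
    rw [Multiset.pmap_eq_map, Multiset.map_id']
  have hQ : Q.map G.sub.subtype = p' := by
    rw [Polynomial.map_multiset_prod, Multiset.map_map]
    conv_rhs => rw [(IsAlgClosed.splits p').eq_prod_roots_of_monic ((minpoly.monic hb).map _), ← hR,
      Multiset.map_map]
    simp
  have hcoe : ∀ k, algebraMap S.functionField Ω (p.coeff k) = (Q.coeff k : Ω) := fun k => by
    rw [← Polynomial.coeff_map]
    change p'.coeff k = _
    rw [← hQ, Polynomial.coeff_map]
    rfl
  have hlifts : p ∈ Polynomial.lifts G.subK.subtype := by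
    rw [Polynomial.lifts_iff_coeff_lifts]
    intro k
    exact ⟨⟨p.coeff k, by change algebraMap _ _ _ ∈ G.sub; rw [hcoe]; exact SetLike.coe_mem _⟩, rfl⟩
  obtain ⟨P, hP, hPdeg, hPm⟩ := Polynomial.lifts_and_degree_eq_and_monic hlifts (minpoly.monic hb)
  have hPQ : P.map G.incl = Q := by
    refine Polynomial.map_injective G.sub.subtype G.sub.subtype_injective ?_
    rw [hQ, Polynomial.map_map]
    change P.map ((algebraMap S.functionField Ω).comp G.subK.subtype) = _
    rw [← Polynomial.map_map, hP]
  refine ⟨P, hPm, ?_, fun q hq k hk => ?_⟩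
  · rw [hPQ]
    apply G.sub.subtype_injective
    rw [map_zero, ← Polynomial.eval₂_hom, ← Polynomial.eval_map, hQ, Polynomial.eval_map,
      ← Polynomial.aeval_def]
    exact minpoly.aeval _ _
  · have hmod : Q.map (Ideal.Quotient.mk q.asIdeal) = Polynomial.X ^ R.card := by
      rw [Polynomial.map_multiset_prod, Multiset.map_map]
      rw [Multiset.map_congr rfl (g := fun _ => (Polynomial.X : (G.sub ⧸ q.asIdeal)[X])) fun r hr => ?_]
      · rw [Multiset.map_const', Multiset.prod_replicate]
      obtain ⟨r', hr', rfl⟩ := Multiset.mem_pmap.mp hr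
      simp [Ideal.Quotient.eq_zero_iff_mem.mpr (hq (τ r' hr'))]
    have hdeg : P.natDegree = R.card := by
      have := congrArg Polynomial.natDegree hmod
      rwa [hQm.natDegree_map, ← hPQ, hPm.natDegree_map, Polynomial.natDegree_X_pow] at this
    rw [← Ideal.Quotient.eq_zero_iff_mem, ← Polynomial.coeff_map, hPQ, ← Polynomial.coeff_map, hmod,
      Polynomial.coeff_X_pow, if_neg (hdeg ▸ hk.ne)]

theorem GenPoint.isIntegral_incl : G.incl.IsIntegral := fun b => by
  obtain ⟨P, hP, hP0, -⟩ := G.exists_minpoly b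
  exact ⟨P, hP, by rw [← Polynomial.eval_map]; exact hP0⟩

/-- Elements of `B'` in the function field separate points from closed sets of `S`. -/
theorem GenPoint.exists_sep [S.IsSeparated] (x : G.cover) (U : S.Opens) (hx : G.toS x ∈ U) :
    ∃ a : G.subK, x ∈ PrimeSpectrum.basicOpen (G.incl a) ∧
      ∀ q : G.cover, q ∈ PrimeSpectrum.basicOpen (G.incl a) → G.toS q ∈ U := by
  obtain ⟨_, ⟨b, rfl⟩, hxb, hbU⟩ := PrimeSpectrum.isTopologicalBasis_basic_opens.exists_subset_of_mem_open
    (show x ∈ G.toS ⁻¹ᵁ U from hx) (G.toS ⁻¹ᵁ U).2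
  obtain ⟨P, hP, hP0, hPq⟩ := G.exists_minpoly b
  have hvan : ∀ q : G.cover, G.toS q ∉ U → ∀ k < P.natDegree, G.incl (P.coeff k) ∈ q.asIdeal := by
    intro q hq
    refine hPq q fun σ => ?_
    by_contra hσ
    have : G.toS (Spec.map (CommRingCat.ofHom (G.res σ)) q) ∈ U := hbU hσ
    rw [← Scheme.Hom.comp_apply, G.res_toS] at this
    exact hq this
  obtain ⟨k, hk, hkx⟩ : ∃ k < P.natDegree, G.incl (P.coeff k) ∉ x.asIdeal := by
    by_contra h
    push Not at h
    refine hxb (x.2.mem_of_pow_mem P.natDegree ?_)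
    rw [hP.as_sum, Polynomial.map_add, Polynomial.map_pow, Polynomial.map_X, Polynomial.map_sum,
      Polynomial.eval_add, Polynomial.eval_pow, Polynomial.eval_X, Polynomial.eval_finsetSum,
      add_eq_zero_iff_eq_neg] at hP0
    rw [hP0]
    refine neg_mem (Ideal.sum_mem _ fun i hi => ?_)
    rw [Polynomial.map_mul, Polynomial.map_C, Polynomial.map_pow, Polynomial.map_X,
      Polynomial.eval_mul, Polynomial.eval_C]
    exact Ideal.mul_mem_right _ _ (h i (Finset.mem_range.mp hi))
  exact ⟨P.coeff k, hkx, fun q hq => by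
    by_contra hqU
    exact hq (hvan q hqU k hk)⟩

/-- Finitely many elements of the function field in `B'` separate and generate the unit ideal. -/
theorem GenPoint.exists_family [S.IsSeparated] :
    ∃ (ι : Type u) (_ : Fintype ι) (a c : ι → G.subK) (U : ι → S.affineOpens),
      (∀ i (q : G.cover), q ∈ PrimeSpectrum.basicOpen (G.incl (a i)) → G.toS q ∈ (U i).1) ∧
      ∑ i, c i * a i = 1 := by
  classical
  have hx : ∀ x : G.cover, ∃ (a : G.subK) (U : S.affineOpens),
      x ∈ PrimeSpectrum.basicOpen (G.incl a) ∧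
        ∀ q : G.cover, q ∈ PrimeSpectrum.basicOpen (G.incl a) → G.toS q ∈ U.1 := by
    intro x
    obtain ⟨_, ⟨U, hU, rfl⟩, hxU, -⟩ := S.isBasis_affineOpens.exists_subset_of_mem_open
      (Set.mem_univ (G.toS x)) isOpen_univ
    obtain ⟨a, ha, ha'⟩ := G.exists_sep x U hxU
    exact ⟨a, ⟨U, hU⟩, ha, ha'⟩
  choose a U hxa haU using hx
  have htop : Ideal.span (Set.range a) = ⊤ := by
    by_contra hne
    obtain ⟨m, hm, hIm⟩ := Ideal.exists_le_maximal _ hne
    obtain ⟨q, hq⟩ := G.isIntegral_incl.comap_surjective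
      (Subtype.val_injective.comp (fun x y h => Subtype.ext ((algebraMap S.functionField Ω).injective
        (congrArg Subtype.val h))) |>.of_comp) ⟨m, hm.isPrime⟩
    refine hxa q (?_ : G.incl (a q) ∈ q.asIdeal)
    have : a q ∈ (PrimeSpectrum.comap G.incl q).asIdeal := hq ▸ hIm (Ideal.subset_span ⟨q, rfl⟩)
    exact this
  obtain ⟨c, hc⟩ := Finsupp.mem_ideal_span_range_iff_exists_finsupp.mp
    (htop ▸ Submodule.mem_top : (1 : G.subK) ∈ Ideal.span (Set.range a))
  refine ⟨↥c.support, inferInstance, fun i => a i.1, fun i => c i.1, fun i => U i.1,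
    fun i => haU i.1, ?_⟩
  rw [Finset.sum_coe_sort c.support fun i => c i * a i]
  exact hc

end Groth.L20.Chevalley
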