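import Groth.Agent.L20.ThickAffine
import Groth.Agent.L22.Ideal

/-!
# Affineness from an affine cover by an affine morphism and an affine closed subscheme

If `π : W ⟶ S` is affine, `W` is affine, `J` is an ideal sheaf with affine subscheme, `π` and `V(J)`
cover `S`, and `J` maps injectively onto an ideal of `π_* O_W`, then `S` is affine.
-/

universe u

open CategoryTheory CategoryTheory.Limits AlgebraicGeometry TopologicalSpace Opposite

namespace Groth.L20.Chevalley

open Groth.L20.ThickAffine (res res_res res_rfl app_res)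

set_option linter.style.haveILetI false
set_option backward.isDefEq.respectTransparency.types false
set_option backward.isDefEq.respectTransparency false
set_option backward.defeqAttrib.useBackward true

variable {S W : Scheme.{u}}

theorem app_res_top {X Z : Scheme.{u}} (f : Z ⟶ X) (U : X.Opens) (s : Γ(X, ⊤)) :
    f.app U (res le_top s) = res (le_top : f ⁻¹ᵁ U ≤ ⊤) (f.appTop s) :=
  app_res f _ s

theorem res_app_top {X Z : Scheme.{u}} (f : Z ⟶ X) (U : X.Opens) (s : Γ(X, ⊤)) :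
    res (le_top : f ⁻¹ᵁ U ≤ ⊤) (f.appTop s) = f.app U (res le_top s) :=
  (app_res f _ s).symm

theorem app_congr_comp {A B B' C : Scheme.{u}} (f : A ⟶ B) (g : B ⟶ C) (f' : A ⟶ B') (g' : B' ⟶ C)
    (h : f ≫ g = f' ≫ g') (U : C.Opens) (e : f ⁻¹ᵁ (g ⁻¹ᵁ U) ≤ f' ⁻¹ᵁ (g' ⁻¹ᵁ U)) (c : Γ(C, U)) :
    f.app (g ⁻¹ᵁ U) (g.app U c) = res e (f'.app (g' ⁻¹ᵁ U) (g'.app U c)) := by
  change (f ≫ g).app U c = res e ((f' ≫ g').app U c)
  rw [Scheme.Hom.congr_app h]
  rfl

/-- The hypotheses on the pair `(π, J)`. -/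
structure GlueData (π : W ⟶ S) (J : S.IdealSheafData) : Prop where
  cover : ∀ x : S, x ∈ Set.range π ∨ x ∈ J.support
  inj : ∀ (U : S.affineOpens), ∀ s ∈ J.ideal U, π.app U.1 s = 0 → s = 0
  cond : ∀ (U : S.affineOpens), ∀ r ∈ J.ideal U, ∀ b, ∃ r' ∈ J.ideal U,
    π.app U.1 r' = π.app U.1 r * b

variable {π : W ⟶ S} {J : S.IdealSheafData}

/-- The image of `J U` is an ideal. -/
theorem GlueData.exists_of_mem_map (h : GlueData π J) (U : S.affineOpens) {y : Γ(W, π ⁻¹ᵁ U.1)}
    (hy : y ∈ (J.ideal U).map (π.app U.1).hom) : ∃ r ∈ J.ideal U, π.app U.1 r = y := by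
  induction hy using Submodule.span_induction with
  | mem x hx => exact hx
  | zero => exact ⟨0, zero_mem _, map_zero _⟩
  | add x y _ _ hx hy =>
    obtain ⟨r, hr, rfl⟩ := hx
    obtain ⟨r', hr', rfl⟩ := hy
    exact ⟨r + r', add_mem hr hr', map_add _ _ _⟩
  | smul a x _ hx =>
    obtain ⟨r, hr, rfl⟩ := hx
    obtain ⟨r', hr', h'⟩ := h.cond U r hr a
    exact ⟨r', hr', by rw [h', smul_eq_mul, mul_comm]⟩

theorem GlueData.sec_ext (h : GlueData π J) {V : S.Opens} (s t : Γ(S, V))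
    (h1 : π.app V s = π.app V t) (h2 : J.subschemeι.app V s = J.subschemeι.app V t) : s = t := by
  refine S.sheaf.eq_of_locally_eq' (fun U : {U : S.affineOpens // U.1 ≤ V} => U.1.1) V
    (fun U => homOfLE U.2) ?_ s t fun U => ?_
  · intro x hx
    obtain ⟨_, ⟨U, hU, rfl⟩, hxU, hUV⟩ := S.isBasis_affineOpens.exists_subset_of_mem_open hx V.2
    exact Opens.mem_iSup.mpr ⟨⟨⟨U, hU⟩, hUV⟩, hxU⟩
  change res U.2 s = res U.2 t
  refine sub_eq_zero.mp (h.inj U.1 _ ?_ ?_)
  · rw [← Scheme.IdealSheafData.ker_subschemeι_app, RingHom.mem_ker, map_sub, sub_eq_zero]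
    change J.subschemeι.app _ (res U.2 s) = J.subschemeι.app _ (res U.2 t)
    rw [app_res, app_res, h2]
  · rw [map_sub, sub_eq_zero, app_res, app_res, h1]

/-- The map between the closed subschemes. -/
noncomputable abbrev gMap (π : W ⟶ S) (J : S.IdealSheafData) :
    (J.comap π).subscheme ⟶ J.subscheme :=
  Scheme.IdealSheafData.subschemeMap _ _ π (J.le_map_comap π)

theorem GlueData.exists_section [IsAffineHom π] (h : GlueData π J) (b : Γ(W, ⊤))
    (t : Γ(J.subscheme, ⊤))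
    (hbt : (J.comap π).subschemeι.appTop b = (gMap π J).appTop t) :
    ∃ s : Γ(S, ⊤), π.appTop s = b ∧ J.subschemeι.appTop s = t := by
  have hg : gMap π J ≫ J.subschemeι = (J.comap π).subschemeι ≫ π :=
    Scheme.IdealSheafData.subschemeMap_subschemeι _ _ _ _
  have hloc : ∀ U : S.affineOpens, ∃ s : Γ(S, U.1),
      π.app U.1 s = res (le_top : π ⁻¹ᵁ U.1 ≤ ⊤) b ∧
      J.subschemeι.app U.1 s = res (le_top : J.subschemeι ⁻¹ᵁ U.1 ≤ ⊤) t := by
    intro U
    obtain ⟨t', ht'⟩ := J.subschemeι_app_surjective U (res le_top t)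
    let U' : W.affineOpens := ⟨π ⁻¹ᵁ U.1, U.2.preimage π⟩
    have hK : res (le_top : π ⁻¹ᵁ U.1 ≤ ⊤) b - π.app U.1 t' ∈ (J.comap π).ideal U' := by
      rw [← Scheme.IdealSheafData.ker_subschemeι_app, RingHom.mem_ker, map_sub, sub_eq_zero]
      have e : (J.comap π).subschemeι ⁻¹ᵁ (π ⁻¹ᵁ U.1) ≤ gMap π J ⁻¹ᵁ (J.subschemeι ⁻¹ᵁ U.1) :=
        le_of_eq (by rw [← Scheme.Hom.comp_preimage, ← hg, Scheme.Hom.comp_preimage])
      refine (app_res_top _ _ b).trans (Eq.trans ?_
        (app_congr_comp _ π _ J.subschemeι hg.symm U.1 e t').symm)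
      rw [hbt, ht', app_res_top, res_res]
    rw [Groth.L22.Ideals.comap_ideal π J U U' le_rfl, ← Scheme.Hom.app_eq_appLE] at hK
    obtain ⟨r, hr, hrb⟩ := h.exists_of_mem_map U hK
    refine ⟨t' + r, by rw [map_add, hrb, add_sub_cancel], ?_⟩
    rw [map_add, ht']
    rw [← Scheme.IdealSheafData.ker_subschemeι_app] at hr
    rw [show J.subschemeι.app U.1 r = 0 from hr, add_zero]
  choose sf hsf1 hsf2 using hloc
  obtain ⟨s, hs, -⟩ := S.sheaf.existsUnique_gluing' (fun U : S.affineOpens => U.1) ⊤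
    (fun U => homOfLE le_top) (fun x _ => by
      obtain ⟨_, ⟨U, hU, rfl⟩, hxU, -⟩ := S.isBasis_affineOpens.exists_subset_of_mem_open
        (Set.mem_univ x) isOpen_univ
      exact Opens.mem_iSup.mpr ⟨⟨U, hU⟩, hxU⟩) sf (fun U V => by
      change res inf_le_left (sf U) = res inf_le_right (sf V)
      refine h.sec_ext _ _ ?_ ?_
      · rw [app_res, app_res, hsf1, hsf1, res_res, res_res]
      · rw [app_res, app_res, hsf2, hsf2, res_res, res_res])
  refine ⟨s, ?_, ?_⟩
  · refine W.sheaf.eq_of_locally_eq' (fun U : S.affineOpens => π ⁻¹ᵁ U.1) ⊤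
      (fun U => homOfLE le_top) (fun x _ => ?_) _ _ fun U => ?_
    · obtain ⟨_, ⟨U, hU, rfl⟩, hxU, -⟩ := S.isBasis_affineOpens.exists_subset_of_mem_open
        (Set.mem_univ (π x)) isOpen_univ
      exact Opens.mem_iSup.mpr ⟨⟨U, hU⟩, hxU⟩
    change res le_top (π.appTop s) = res le_top b
    rw [← hsf1 U, ← hs U]
    exact (app_res π le_top s).symm
  · refine J.subscheme.sheaf.eq_of_locally_eq' (fun U : S.affineOpens => J.subschemeι ⁻¹ᵁ U.1) ⊤
      (fun U => homOfLE le_top) (fun x _ => ?_) _ _ fun U => ?_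
    · obtain ⟨_, ⟨U, hU, rfl⟩, hxU, -⟩ := S.isBasis_affineOpens.exists_subset_of_mem_open
        (Set.mem_univ (J.subschemeι x)) isOpen_univ
      exact Opens.mem_iSup.mpr ⟨⟨U, hU⟩, hxU⟩
    change res le_top (J.subschemeι.appTop s) = res le_top t
    rw [← hsf2 U, ← hs U]
    exact (app_res J.subschemeι le_top s).symm

theorem exists_lift_top [IsAffine W] (K : W.IdealSheafData) (c : Γ(K.subscheme, ⊤)) :
    ∃ b : Γ(W, ⊤), K.subschemeι.appTop b = c :=
  K.subschemeι_app_surjective ⟨⊤, isAffineOpen_top W⟩ c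

theorem GlueData.surjective [IsAffineHom π] [IsAffine W] (h : GlueData π J) :
    Function.Surjective (J.subschemeι.appTop) := fun t => by
  obtain ⟨b, hb⟩ := exists_lift_top (J.comap π) ((gMap π J).appTop t)
  obtain ⟨s, -, hs⟩ := h.exists_section b t hb
  exact ⟨s, hs⟩

/-- Sections without common zero generate the unit ideal. -/
theorem GlueData.span_eq_top [IsAffineHom π] [IsAffine W] [IsAffine J.subscheme]
    (h : GlueData π J) (A : Set Γ(S, ⊤)) (hA : ∀ x : S, ∃ a ∈ A, x ∈ S.basicOpen a) :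
    Ideal.span A = ⊤ := by
  have key : ∀ {Y : Scheme.{u}} [IsAffine Y] (φ : Y ⟶ S),
      (Ideal.span A).map φ.appTop.hom = ⊤ := by
    intro Y _ φ
    rw [Ideal.map_span, ← (isAffineOpen_top Y).iSup_basicOpen_eq_self_iff]
    refine eq_top_iff.mpr fun y _ => ?_
    obtain ⟨a, ha, hy⟩ := hA (φ y)
    refine Opens.mem_iSup.mpr ⟨⟨_, Set.mem_image_of_mem _ ha⟩, ?_⟩
    change y ∈ φ ⁻¹ᵁ S.basicOpen a at hy
    rw [Scheme.preimage_basicOpen] at hy
    exact hy
  obtain ⟨d, hd, hd1⟩ := (Ideal.mem_map_iff_of_surjective _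
    (show Function.Surjective J.subschemeι.appTop.hom from h.surjective)).mp
      (key J.subschemeι ▸ Submodule.mem_top : (1 : Γ(J.subscheme, ⊤)) ∈ _)
  let u := 1 - d
  have hu : J.subschemeι.appTop u = 0 := by
    change J.subschemeι.appTop.hom (1 - d) = 0
    rw [map_sub, map_one, hd1, sub_self]
  have hzero : ∀ c : Γ(W, ⊤),
      (J.comap π).subschemeι.appTop (π.appTop u * c) = (gMap π J).appTop 0 := by
    intro c
    rw [map_mul, map_zero]
    have hg := congrArg (fun φ : (J.comap π).subscheme ⟶ S => φ.appTop u)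
      (Scheme.IdealSheafData.subschemeMap_subschemeι _ _ π (J.le_map_comap π))
    simp only [Scheme.Hom.comp_appTop, CommRingCat.comp_apply, hu, map_zero] at hg
    rw [← hg, zero_mul]
  have main : ∀ y ∈ (Ideal.span A).map π.appTop.hom, ∃ s ∈ Ideal.span A,
      π.appTop s = π.appTop u * y ∧ J.subschemeι.appTop s = 0 := by
    intro y hy
    induction hy using Submodule.span_induction with
    | mem x hx =>
      obtain ⟨a, ha, rfl⟩ := hx
      obtain ⟨e, he1, he2⟩ := h.exists_section (π.appTop u * 1) 0 (hzero 1)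
      refine ⟨e * a, Ideal.mul_mem_left _ _ ha, ?_, by rw [map_mul, he2, zero_mul]⟩
      rw [map_mul, he1, mul_one]
    | zero => exact ⟨0, zero_mem _, by rw [map_zero, mul_zero], map_zero _⟩
    | add x y _ _ hx hy =>
      obtain ⟨s, hs, hs1, hs2⟩ := hx
      obtain ⟨s', hs', hs1', hs2'⟩ := hy
      exact ⟨s + s', add_mem hs hs', by rw [map_add, hs1, hs1', mul_add],
        by rw [map_add, hs2, hs2', add_zero]⟩
    | smul c x hx _ =>
      clear * - hx h hzero
      induction hx using Submodule.span_induction generalizing c with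
      | mem x hx =>
        obtain ⟨a, ha, rfl⟩ := hx
        obtain ⟨e, he1, he2⟩ := h.exists_section (π.appTop u * c) 0 (hzero c)
        refine ⟨e * a, Ideal.mul_mem_left _ _ ha, ?_, by rw [map_mul, he2, zero_mul]⟩
        rw [map_mul, he1, smul_eq_mul, mul_assoc]
      | zero => exact ⟨0, zero_mem _, by rw [map_zero, smul_zero, mul_zero], map_zero _⟩
      | add x y _ _ hx hy =>
        obtain ⟨s, hs, hs1, hs2⟩ := hx c
        obtain ⟨s', hs', hs1', hs2'⟩ := hy c
        exact ⟨s + s', add_mem hs hs', by rw [map_add, hs1, hs1', smul_add, mul_add],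
          by rw [map_add, hs2, hs2', add_zero]⟩
      | smul c' x _ hx =>
        obtain ⟨s, hs, hs1, hs2⟩ := hx (c * c')
        exact ⟨s, hs, by rw [hs1, smul_eq_mul, smul_eq_mul, smul_eq_mul, mul_assoc], hs2⟩
  obtain ⟨s, hs, hs1, hs2⟩ := main 1 (key π ▸ Submodule.mem_top)
  have hsu : s = u := h.sec_ext _ _ (hs1.trans (mul_one _)) (hs2.trans hu.symm)
  rw [Ideal.eq_top_iff_one, show (1 : Γ(S, ⊤)) = u + d from (sub_add_cancel 1 d).symm]
  exact add_mem (hsu ▸ hs) hd

/-- On an affine scheme, a function with no zeros on `V(I)` outside an open has a power in `I` modulo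
functions vanishing outside the open. -/
theorem exists_pow_sub_mem [IsAffine W] (K : W.IdealSheafData) (V : W.Opens) (b : Γ(W, ⊤))
    (hb : ∀ w ∈ K.support, w ∈ W.basicOpen b → w ∈ V) :
    ∃ (n : ℕ) (b' : Γ(W, ⊤)), b ^ (n + 1) - b' ∈ K.ideal ⟨⊤, isAffineOpen_top W⟩ ∧
      W.basicOpen b' ≤ V := by
  have hT := isAffineOpen_top W
  let T : Set (PrimeSpectrum Γ(W, ⊤)) := hT.fromSpec ⁻¹' (V : Set W)ᶜ
  have hTc : IsClosed T := V.2.isClosed_compl.preimage hT.fromSpec.continuous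
  let I := K.ideal ⟨⊤, hT⟩ ⊔ PrimeSpectrum.vanishingIdeal T
  have hrad : b ∈ I.radical := by
    rw [Ideal.radical_eq_sInf, Submodule.mem_sInf]
    rintro p ⟨hIp, hp⟩
    by_contra hbp
    let q : PrimeSpectrum Γ(W, ⊤) := ⟨p, hp⟩
    have hw : hT.fromSpec q ∈ W.basicOpen b := by
      change q ∈ hT.fromSpec ⁻¹ᵁ W.basicOpen b
      rw [hT.fromSpec_preimage_basicOpen]
      exact hbp
    have hwK : hT.fromSpec q ∈ K.support := by
      have : hT.fromSpec q ∈ (K.support : Set W) ∩ (⊤ : W.Opens) := by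
        rw [K.coe_support_inter ⟨⊤, hT⟩, ← hT.fromSpec_image_zeroLocus]
        exact ⟨q, fun x hx => hIp (Submodule.mem_sup_left hx), rfl⟩
      exact this.1
    have hqT : q ∈ T := by
      rw [← hTc.closure_eq, ← PrimeSpectrum.zeroLocus_vanishingIdeal_eq_closure]
      exact fun x hx => hIp (Submodule.mem_sup_right hx)
    exact hqT (hb _ hwK hw)
  obtain ⟨n, hn⟩ := hrad
  obtain ⟨k, hk, b', hb', hkb⟩ := Submodule.mem_sup.mp (I.mul_mem_left b hn)
  refine ⟨n, b', ?_, fun w hw => ?_⟩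
  · rw [pow_succ', ← hkb, add_sub_cancel_right]
    exact hk
  by_contra hwV
  have hwr : w ∈ Set.range hT.fromSpec := by rw [hT.range_fromSpec]; trivial
  obtain ⟨q, rfl⟩ := hwr
  have hqT : q ∈ T := hwV
  change q ∈ hT.fromSpec ⁻¹ᵁ W.basicOpen b' at hw
  rw [hT.fromSpec_preimage_basicOpen] at hw
  exact hw ((PrimeSpectrum.mem_vanishingIdeal _ _).mp hb' q hqT)

/-- Points are separated from closed complements of affine opens by global sections. -/
theorem GlueData.exists_basicOpen [IsAffineHom π] [IsAffine W] [IsAffine J.subscheme]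
    (h : GlueData π J) (x : S) (U : S.Opens) (hxU : x ∈ U) :
    ∃ s : Γ(S, ⊤), x ∈ S.basicOpen s ∧ S.basicOpen s ≤ U := by
  classical
  let K := J.comap π
  -- it suffices to find compatible `b` and `t` supported over `U`, one of them nonzero over `x`
  suffices hbt : ∃ (b : Γ(W, ⊤)) (t : Γ(J.subscheme, ⊤)),
      K.subschemeι.appTop b = (gMap π J).appTop t ∧ W.basicOpen b ≤ π ⁻¹ᵁ U ∧
      J.subscheme.basicOpen t ≤ J.subschemeι ⁻¹ᵁ U ∧
      ((∃ w, π w = x ∧ w ∈ W.basicOpen b) ∨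
        ∃ z, J.subschemeι z = x ∧ z ∈ J.subscheme.basicOpen t) by
    obtain ⟨b, t, hbt, hb, ht, hx⟩ := hbt
    obtain ⟨s, hsb, hst⟩ := h.exists_section b t hbt
    have e1 : π ⁻¹ᵁ S.basicOpen s = W.basicOpen b := by
      rw [Scheme.preimage_basicOpen_top, hsb]
    have e2 : J.subschemeι ⁻¹ᵁ S.basicOpen s = J.subscheme.basicOpen t := by
      rw [Scheme.preimage_basicOpen_top, hst]
    refine ⟨s, ?_, fun y hy => ?_⟩
    · rcases hx with ⟨w, rfl, hw⟩ | ⟨z, rfl, hz⟩
      · exact (e1.ge hw :)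
      · exact (e2.ge hz :)
    rcases h.cover y with ⟨w, rfl⟩ | hy'
    · exact hb (e1.le hy)
    · rw [← SetLike.mem_coe, ← Scheme.IdealSheafData.range_subschemeι] at hy'
      obtain ⟨z, rfl⟩ := hy'
      exact ht (e2.le hy)
  by_cases hxJ : x ∈ J.support
  · rw [← SetLike.mem_coe, ← Scheme.IdealSheafData.range_subschemeι] at hxJ
    obtain ⟨z, rfl⟩ := hxJ
    obtain ⟨_, ⟨_, ⟨t, rfl⟩, rfl⟩, hzt, htU⟩ := (isBasis_basicOpen J.subscheme).exists_subset_of_mem_open
      (show z ∈ J.subschemeι ⁻¹ᵁ U from hxU) (J.subschemeι ⁻¹ᵁ U).2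
    obtain ⟨b₀, hb₀⟩ := exists_lift_top K ((gMap π J).appTop t)
    obtain ⟨n, b, hbK, hbU⟩ := exists_pow_sub_mem K (π ⁻¹ᵁ U) b₀ fun w hwK hw => by
      rw [← SetLike.mem_coe, ← Scheme.IdealSheafData.range_subschemeι] at hwK
      obtain ⟨e, rfl⟩ := hwK
      have he : e ∈ K.subschemeι ⁻¹ᵁ W.basicOpen b₀ := hw
      rw [Scheme.preimage_basicOpen_top, hb₀] at he
      have : e ∈ gMap π J ⁻¹ᵁ J.subscheme.basicOpen t := by
        rw [Scheme.preimage_basicOpen_top]; exact he
      have h2 : J.subschemeι (gMap π J e) ∈ U := htU this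
      rw [← Scheme.Hom.comp_apply, Scheme.IdealSheafData.subschemeMap_subschemeι] at h2
      exact h2
    refine ⟨b, t ^ (n + 1), ?_, hbU, ?_, Or.inr ⟨z, rfl, ?_⟩⟩
    · rw [← Scheme.IdealSheafData.ker_subschemeι_app, RingHom.mem_ker, map_sub, sub_eq_zero] at hbK
      change _ = K.subschemeι.appTop b at hbK
      rw [← hbK, map_pow, map_pow]
      exact congrArg (· ^ (n + 1)) hb₀
    · rw [Scheme.basicOpen_pow _ _ (Nat.succ_pos n)]
      exact fun y hy => htU hy
    · rw [Scheme.basicOpen_pow _ _ (Nat.succ_pos n)]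
      exact hzt
  · obtain ⟨w, rfl⟩ := (h.cover x).resolve_right hxJ
    let V : W.Opens := π ⁻¹ᵁ U ⊓ ⟨(K.support : Set W)ᶜ, K.support.isClosed.isOpen_compl⟩
    have hwV : w ∈ V := ⟨hxU, fun hw => hxJ (by
      change w ∈ (K.support : Set W) at hw
      rw [Scheme.IdealSheafData.support_comap] at hw
      exact hw)⟩
    obtain ⟨_, ⟨_, ⟨b₀, rfl⟩, rfl⟩, hwb, hbV⟩ := (isBasis_basicOpen W).exists_subset_of_mem_open hwV V.2
    obtain ⟨n, b, hbK, hbU⟩ := exists_pow_sub_mem K (⊥ : W.Opens) b₀ fun v hv hvb =>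
      absurd hv (hbV hvb).2
    -- `b` is nilpotent, so `b₀ ^ (n+1) - b` has the same basic open
    refine ⟨b₀ ^ (n + 1) - b, 0, ?_, ?_, ?_, Or.inl ⟨w, rfl, ?_⟩⟩
    · rw [map_zero]
      rw [← Scheme.IdealSheafData.ker_subschemeι_app] at hbK
      exact hbK
    · intro v hv
      have hv' : v ∈ W.basicOpen ((b₀ ^ (n + 1) - b) + b) ∨ v ∈ W.basicOpen b := by
        by_contra hcon
        push Not at hcon
        simp only [Scheme.mem_basicOpen_top, map_add] at hcon hv
        exact (IsLocalRing.isUnit_or_isUnit_of_isUnit_add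
          (show IsUnit (((W.presheaf.Γgerm v).hom (b₀ ^ (n + 1) - b) +
            (W.presheaf.Γgerm v).hom b) + -(W.presheaf.Γgerm v).hom b) by
              rwa [add_neg_cancel_right])).elim hcon.1 fun h' => hcon.2 ((IsUnit.neg_iff _).mp h')
      rcases hv' with hv' | hv'
      · rw [sub_add_cancel, Scheme.basicOpen_pow _ _ (Nat.succ_pos n)] at hv'
        exact (hbV hv').1
      · exact absurd (hbU hv') id
    · rw [Scheme.basicOpen_zero]
      exact bot_le
    · have hw1 : w ∈ W.basicOpen (b₀ ^ (n + 1)) := by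
        rw [Scheme.basicOpen_pow _ _ (Nat.succ_pos n)]; exact hwb
      have hw2 : w ∉ W.basicOpen b := fun hw => (hbU hw : False)
      simp only [Scheme.mem_basicOpen_top, map_sub] at hw1 hw2 ⊢
      refine ((IsLocalRing.isUnit_or_isUnit_of_isUnit_add
        (a := _ - (W.presheaf.Γgerm w).hom b) (b := (W.presheaf.Γgerm w).hom b) ?_).resolve_right hw2)
      rwa [sub_add_cancel]

/-- The affineness theorem. -/
theorem GlueData.isAffine [IsAffineHom π] [IsAffine W] [IsAffine J.subscheme]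
    (h : GlueData π J) : IsAffine S := by
  have hx : ∀ x : S, ∃ s : Γ(S, ⊤), x ∈ S.basicOpen s ∧ IsAffineOpen (S.basicOpen s) := by
    intro x
    obtain ⟨_, ⟨U, hU, rfl⟩, hxU, -⟩ := S.isBasis_affineOpens.exists_subset_of_mem_open
      (Set.mem_univ x) isOpen_univ
    obtain ⟨s, hxs, hsU⟩ := h.exists_basicOpen x U hxU
    refine ⟨s, hxs, ?_⟩
    have e : S.basicOpen (res (le_top : U ≤ ⊤) s) = S.basicOpen s := by
      rw [Scheme.basicOpen_res]
      exact inf_eq_right.mpr hsU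
    exact e ▸ hU.basicOpen _
  refine isAffine_of_isAffineOpen_basicOpen {s | IsAffineOpen (S.basicOpen s)} ?_ fun _ hs => hs
  refine h.span_eq_top _ fun x => ?_
  obtain ⟨s, hxs, hs⟩ := hx x
  exact ⟨s, hs, hxs⟩

end Groth.L20.Chevalley
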